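import Cfsg.Agent.SM.Pw.Pow
import Cfsg.Agent.SM.Ot.Aff

/-!
# SM (S3570): `BoxPow` (helper59)

The first half of `small_of_aff` is the argument of `SM.Ot.aff_eight` (helper15) under the weaker hypothesis.
-/

set_option autoImplicit false
set_option linter.unusedSectionVars false
set_option linter.unusedVariables false

namespace Cfsg.Agent.SM.Pw

open Equiv Subgroup MulAction Cfsg.Agent.SM.Ot

variable {Ω : Type} [Fintype Ω] [DecidableEq Ω] {X H M V : Subgroup (Perm Ω)}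

theorem card_orb (K : Subgroup (Perm Ω)) (a : Ω) :
    Nat.card K = Nat.card ↥(K ⊓ stabilizer (Perm Ω) a) * Nat.card (Gam K a) := by
  rw [← (stabilizer K a).card_mul_index, index_stabilizer, ← Nat.card_coe_set_eq]
  congr 1
  · exact Nat.card_congr ⟨fun x => ⟨x.1.1, x.1.2, x.2⟩, fun x => ⟨⟨x.1, x.2.1⟩, x.2.2⟩, fun _ => rfl, fun _ => rfl⟩
  · exact Nat.card_congr (Equiv.subtypeEquivRight fun u =>
      ⟨fun ⟨g, hg⟩ => ⟨g, g.2, hg⟩, fun ⟨g, hg, e⟩ => ⟨⟨g, hg⟩, e⟩⟩)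

theorem not_dvd_pow {T : Subgroup (Perm Ω)} (hs : IsSimpleGroup T) (hn : ∃ a ∈ T, ∃ b ∈ T, a * b ≠ b * a) {p d : ℕ}
    (hp : p.Prime) : ¬ Nat.card T ∣ p ^ d := by
  intro h
  obtain ⟨k, -, hk⟩ := (Nat.dvd_prime_pow hp).1 h
  have := Fact.mk hp
  have h2 := (IsPGroup.of_card hk).center_nontrivial
  obtain ⟨x, hx⟩ := exists_ne (1 : center T)
  exact hx (Subtype.ext (Subtype.ext (eq_one_of_central hs hn x.1.2 fun t ht =>
    (congrArg Subtype.val (mem_center_iff.1 x.2 ⟨t, ht⟩)).symm)))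

/-- a semiregular normal subgroup of a transitive group has order dividing the degree -/
theorem card_dvd_of_semi {D T : Subgroup (Perm Ω)} (tD : Tr D) (h : Nor D T) (a : Ω)
    (h1 : ∀ t ∈ T, t a = a → t = 1) : Nat.card T ∣ Fintype.card Ω := by
  have := h.normal
  have h2 : Function.Injective ((QuotientGroup.mk' (T.subgroupOf D)).comp
      (inclusion (inf_le_left : D ⊓ stabilizer (Perm Ω) a ≤ D))) := by
    rw [injective_iff_map_eq_one]
    intro x hx
    exact Subtype.ext (h1 x ((QuotientGroup.eq_one_iff (N := T.subgroupOf D) _).1 hx) x.2.2)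
  obtain ⟨k, hk⟩ := card_dvd_of_injective _ h2
  have h3 := card_eq_card_quotient_mul_card_subgroup (T.subgroupOf D)
  rw [tD.card a, hk, Nat.card_congr (subgroupOfEquivOfLe h.le).toEquiv, mul_comm, mul_assoc] at h3
  exact ⟨k, (Nat.eq_of_mul_eq_mul_left Nat.card_pos h3).trans (mul_comm _ _)⟩

/-- primitive groups of degree `8`, `9`, `27` are affine or almost simple -/
theorem small_pp (hp : IsPreprimitive H Ω) (hna : ∀ V, ¬ Aff H V) (hns : ∀ T, ¬ Soc H T) {p d : ℕ} (p1 : p.Prime)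
    (hn : Fintype.card Ω = p ^ d) (h2 : 2 ≤ Fintype.card Ω) (h23 : p = 2 ∨ p = 3) (h4 : d < 4) : False := by
  obtain ⟨a⟩ : Nonempty Ω := Fintype.card_pos_iff.1 (by omega)
  obtain ⟨D, -, hD⟩ := exists_minN (Nor.refl H) (ne_bot_of_prim hp h2)
  obtain ⟨G⟩ := hD.fc hna
  have tD := tr_of_nor hp hD.toNor hD.ne
  let i : Fin G.m := ⟨0, G.pos⟩
  have hsemi : ¬ ∀ t ∈ G.T i, t a = a → t = 1 := fun h => not_dvd_pow (G.simple i) (G.nab i) p1
    (hn ▸ card_dvd_of_semi tD ⟨G.le i, fun g hg x hx => G.conj_mem hg i hx⟩ a h)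
  have hK := stab_covBy hp h2 a
  have hNK : ¬ D ≤ H ⊓ stabilizer (Perm Ω) a := fun h => hD.ne (eq_bot_iff.2 fun x hx => mem_bot.2 (Perm.ext fun u => by
    obtain ⟨y, hy, rfl⟩ := tD a u
    rw [show y a = a from (h hy).2]
    exact (h hx).2))
  rcases G.sc_of_covBy hK hNK with hP | ⟨c, hc⟩
  · have hprod : ∀ n ∈ D, n a = a → ∀ i, G.π i n a = a := fun n hn ha i => ((hP n hn).1 ⟨G.nor.le hn, ha⟩ i).2
    by_cases hm : G.m = 1
    · have hT : G.T i = D := le_antisymm (G.le i) fun n hn => G.mem_T hn fun j hj =>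
        absurd (Fin.ext (by have := j.2; simp only [i]; omega)) hj
      push Not at hsemi
      obtain ⟨t, ht, hta, ht1⟩ := hsemi
      have hC := cen_eq_bot hp G.nor (G.le i ht) ht1 hta
      obtain ⟨x, hx, y, hy, hxy⟩ := G.nab i
      exact hns D ⟨G.nor, hT ▸ G.simple i, fun h => hxy (congrArg Subtype.val
        (h.is_comm.comm (⟨x, G.le i hx⟩ : D) ⟨y, G.le i hy⟩)), fun g hg h =>
        mem_bot.1 (hC ▸ mem_Cen.2 ⟨hg, fun n hn => (h n hn).symm⟩)⟩
    · have h1 := G.card_inf (Fc.sup_stab tD a) (fun n hn => ⟨hprod n hn, G.gen _ n hn⟩) i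
      have h3 := tD.card a
      rw [G.card_N i, h1, card_orb (G.T i) a, mul_pow, mul_comm] at h3
      have h5 := Nat.eq_of_mul_eq_mul_right (pow_pos Nat.card_pos _) h3
      have h6 := (G.two tD (G.sp_of_prod hprod fun j => j = i)).five_le (G.T_le_P rfl) (G.simple i) (G.nab i)
      rw [G.P_single] at h6
      generalize Nat.card (Gam (G.T i) a) = r at h5 h6
      have h7 : r ^ 2 ∣ p ^ d := hn ▸ h5 ▸ pow_dvd_pow r (by have := G.pos; omega)
      obtain ⟨k, -, rfl⟩ := (Nat.dvd_prime_pow p1).1 ((dvd_pow_self r two_ne_zero).trans h7)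
      rw [← pow_mul, Nat.pow_dvd_pow_iff_le_right p1.one_lt] at h7
      have h8 : k ≤ 1 := by omega
      have h9 := Nat.pow_le_pow_right p1.pos h8
      rw [pow_one] at h9
      omega
  · obtain ⟨j, hj, e⟩ := hc.ne i
    exact hsemi fun t ht hta => (G.self i t ht).symm.trans
      (hc.rel i j e.symm t (G.le i ht) ⟨G.nor.le (G.le i ht), hta⟩ (G.ne j i hj t ht))

theorem affSoc : AffSoc := by
  intro Ω _ _ X H M V s hp hna hM hV
  by_contra hcon
  push Not at hcon
  have h5 := s.five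
  obtain ⟨a⟩ : Nonempty Ω := Fintype.card_pos_iff.1 (by omega)
  obtain ⟨p, p1, p2⟩ := aff_exp hp hM hV a
  have := Fact.mk p1
  have tr := aff_tr hp hM hV
  have bij := aff_card hp hM hV a
  have hinf : ∀ h ∈ H, h ∈ V → h = 1 := fun h h1 h2 => by
    by_contra h3
    exact hna (H ⊓ V) ⟨hV.toNor.inf hM.2, fun e => h3 (mem_bot.1 (e.le ⟨h1, h2⟩)), fun x hx y hy => hV.comm x hx.2 y hy.2⟩
  let : CommGroup V := { (inferInstance : Group V) with mul_comm := fun x y => Subtype.ext (hV.comm _ x.2 _ y.2) }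
  have p3 : ∀ v : V, v ^ p = 1 := fun v => Subtype.ext (p2 v v.2)
  obtain ⟨d, hd⟩ := IsPGroup.iff_card.1 (show IsPGroup p V from fun v => ⟨1, by rw [pow_one, p3]⟩)
  have hn : Fintype.card Ω = p ^ d := by rw [← hd, Nat.card_eq_of_bijective _ bij, Nat.card_eq_fintype_card]
  let ρ : H →* MulAut V := V.normalizerMonoidHom.comp (inclusion (hM.2.trans hV.le_normalizer))
  have ρ1 : ∀ (h : H) (v : V), (ρ h v : Perm Ω) = h * v * (h : Perm Ω)⁻¹ := fun _ _ => rfl
  have hρ : Function.Injective ρ := (injective_iff_map_eq_one ρ).2 fun h e => by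
    obtain ⟨v, hv, k⟩ := tr a (h.1 a)
    refine Subtype.ext (hinf _ h.2 (inv_mul_eq_one.1 (semi tr (a := a) (fun n hn => ?_)
      (Perm.inv_eq_iff_eq.2 k.symm)) ▸ hv))
    have k1 : n * h = h * n :=
      eq_mul_inv_iff_mul_eq.1 ((congrArg Subtype.val (DFunLike.congr_fun e (⟨n, hn⟩ : V))).symm)
    rw [mul_assoc, ← k1, ← mul_assoc, hV.comm _ (inv_mem hv) _ hn, mul_assoc]
  have hMV := (s.le_or_mul hM hV.le fun g hg => hV.conj g (hM.2 hg)).resolve_left fun e =>
    hV.ne (eq_bot_iff.2 fun v hv => hinf _ (e hv) hv)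
  choose w w1 w2 using fun β : MulAut V => H936.exists_realize (pretrans tr) a β fun n =>
    ⟨fun e => by rw [bij.1 (a₂ := 1) e, map_one]; rfl,
      fun e => by rw [β.injective ((bij.1 (a₂ := 1) e).trans (map_one β).symm)]; rfl⟩
  have ev : ∀ (g : Perm Ω) (β : MulAut V), Perm.sign g = 1 → (∀ n : V, g * n * g⁻¹ = β n) → β ∈ ρ.range :=
    fun g β g1 g2 => by
    obtain ⟨h, hh, x, hx, rfl⟩ :=
      hMV g ((s.eq_normalizer hM hV.toNor hV.ne).ge ⟨s.alt g1, H936.mem_normalizer_of_realize g2⟩)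
    refine ⟨⟨h, hh⟩, MulEquiv.ext fun v => Subtype.ext ?_⟩
    rw [ρ1, ← g2, mul_assoc h x, hV.comm x hx _ v.2]
    group
  have wi : ∀ (β : MulAut V) (n : V), (w β)⁻¹ * n * (w β)⁻¹⁻¹ = β⁻¹ n := fun β n => by
    conv_lhs => rw [← β.apply_symm_apply n, ← w2]
    group
    rfl
  have full : ∀ β γ : MulAut V, β * γ * β⁻¹ * γ⁻¹ ∈ ρ.range := fun β γ => ev (w β * w γ * (w β)⁻¹ * (w γ)⁻¹) _ (by
      simp [mul_right_comm (Perm.sign (w β))]) fun n => by
    rw [MulAut.mul_apply, MulAut.mul_apply, MulAut.mul_apply, ← w2, ← w2, ← wi, ← wi]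
    group
  have h4 : d < 4 := not_le.1 fun h4 => by
    choose c hc using fun h : H => show ∃ v : V, v.1 a = h.1 a from bij.2 (h.1 a)
    have k1 : ∀ (h : H) (v : V), ((c h * ρ h v : V) : Perm Ω) a = h.1 (v.1 a) := fun h v => by
      rw [mul_comm, coe_mul, Perm.mul_apply, hc, ρ1, ← Perm.mul_apply, inv_mul_cancel_right, Perm.mul_apply]
    have : IsPretransitive H Ω := inferInstance
    obtain ⟨P⟩ : Nonempty (Sylow p H) := inferInstance
    have tP := PermutationGroups.SylowTransitive.isPretransitive_sylow (Nat.card_eq_fintype_card.trans hn) P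
    refine no_four p3 ρ hρ c (fun g h => bij.1 ?_) full P.isPGroup' (fun v y => ?_)
      (hd ▸ Nat.pow_le_pow_right p1.pos h4)
    · exact (hc _).trans ((k1 g (c h)).trans (congrArg g.1 (hc h))).symm
    · obtain ⟨g, hg⟩ := tP.exists_smul_eq (v.1 a) (y.1 a)
      exact ⟨g, g.2, bij.1 ((k1 g v).trans hg)⟩
  have h23 : p = 2 ∨ p = 3 := by
    refine (eq_or_ne p 2).imp_right fun h2 => ?_
    let β : MulAut V := MulEquiv.ofBijective (powMonoidHom 2) (powCoprime (n := 2) (by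
      rw [hd]
      exact ((Nat.coprime_primes p1 Nat.prime_two).2 h2).pow_left d)).bijective
    obtain ⟨h, hh⟩ := ev (w β * w β) (β * β) (by simp) fun n => by
      rw [MulAut.mul_apply, ← w2, ← w2]
      group
    have k0 : ∀ t ∈ H, (h : Perm Ω) * t = t * h := fun t ht =>
      congrArg Subtype.val (hρ (a₁ := h * ⟨t, ht⟩) (a₂ := ⟨t, ht⟩ * h) (by
      rw [map_mul, map_mul, hh]
      exact MulEquiv.ext fun v => (show (ρ _ v ^ 2) ^ 2 = ρ _ ((v ^ 2) ^ 2) by rw [map_pow, map_pow])))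
    have k1 : h = 1 := by
      by_contra k2
      refine hna (Cen H H) ⟨Nor.cen (Nor.refl H), fun e => k2 (Subtype.ext (mem_bot.1 (e.le ?_))), fun x hx y hy => ?_⟩
      · exact mem_Cen.2 ⟨h.2, fun n hn => (k0 n hn).symm⟩
      · exact (mem_Cen.1 hy).2 x hx.1
    obtain ⟨v, hv, v1⟩ := (bot_or_exists_ne_one V).resolve_left hV.ne
    have k2 : (⟨v, hv⟩ : V) = (⟨v, hv⟩ ^ 2) ^ 2 := by
      rw [k1, map_one] at hh
      exact DFunLike.congr_fun hh ⟨v, hv⟩
    rw [← pow_mul, pow_succ, right_eq_mul, ← orderOf_dvd_iff_pow_eq_one,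
      orderOf_eq_prime (p3 _) fun e => v1 (congrArg Subtype.val e)] at k2
    exact (Nat.prime_dvd_prime_iff_eq p1 Nat.prime_three).1 k2
  exact small_pp hp hna hcon p1 hn (by omega) h23 h4

/-- **`H` primitive, neither affine nor almost simple** -/
theorem boxPow : BoxPow := boxPow_of affSoc

end Cfsg.Agent.SM.Pw
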