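import Cfsg.Agent.SM.Pw.Count
import Cfsg.Agent.S3679
import Cfsg.Agent.S3680

/-!
# SM (S3570): `BoxPow` from the statement on affine overgroups (helper59)
-/

set_option autoImplicit false
set_option linter.unusedSectionVars false
set_option linter.unusedVariables false

namespace Cfsg.Agent.SM.Pw

open Equiv Subgroup MulAction

/-- an affine overgroup of a primitive group without abelian normal subgroups forces it to be almost simple -/
def AffSoc : Prop := ∀ (Ω : Type) [Fintype Ω] [DecidableEq Ω] (X H M V : Subgroup (Perm Ω)), Sec X H →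
  IsPreprimitive H Ω → (∀ W, ¬ Aff H W) → M ∈ Ov X H → Aff M V → ∃ T, Soc H T

variable {Ω : Type} [Fintype Ω] [DecidableEq Ω]

/-- the socle of a primitive group that is neither affine nor almost simple -/
theorem exists_socle {H : Subgroup (Perm Ω)} (hp : IsPreprimitive H Ω) (h2 : 2 ≤ Fintype.card Ω)
    (hna : ∀ V, ¬ Aff H V) (hns : ∀ T, ¬ Soc H T) :
    ∃ (A : Subgroup (Perm Ω)) (T : Type) (_ : Group T) (m : ℕ), Nor H A ∧ A ≠ ⊥ ∧
      (∀ S, (∀ D, MinN H D → D ≤ S) → A ≤ S) ∧ 2 ≤ m ∧ IsSimpleGroup T ∧ ¬ IsMulCommutative T ∧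
      Nonempty (A ≃* (Fin m → T)) := by
  let N : Subgroup H := sSup {V : Subgroup H | V.Normal ∧ V ≠ ⊥ ∧ ∀ M : Subgroup H, M.Normal → M ≤ V → M = ⊥ ∨ M = V}
  have hNn : N.Normal := sSup_normal _ fun V hV => hV.1
  have hle : ∀ D, MinN H D → D ≤ N.map H.subtype := by
    intro D hD
    have hmap : (D.subgroupOf H).map H.subtype = D := map_subgroupOf_eq_of_le hD.le
    rw [← hmap]
    refine map_mono (le_sSup ⟨hD.toNor.normal, fun h => hD.ne (by rw [← hmap, h, Subgroup.map_bot]), fun K hK hKD => ?_⟩)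
    rcases hD.min _ (Nor.of_normal K) (hmap ▸ map_mono hKD) with h1 | h1
    · exact Or.inl ((map_eq_bot_iff_of_injective _ H.subtype_injective).1 h1)
    · exact Or.inr (map_injective H.subtype_injective (h1.trans hmap.symm))
  have hge : ∀ S, (∀ D, MinN H D → D ≤ S) → N.map H.subtype ≤ S := by
    intro S hS
    rw [map_le_iff_le_comap]
    refine sSup_le fun V hV => ?_
    rw [← map_le_iff_le_comap]
    have := hV.1
    refine hS _ ⟨Nor.of_normal V, fun h => hV.2.1 ((map_eq_bot_iff_of_injective _ H.subtype_injective).1 h),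
      fun K hK hKV => ?_⟩
    have hmap : (K.subgroupOf H).map H.subtype = K := map_subgroupOf_eq_of_le hK.le
    rcases hV.2.2 _ hK.normal ((map_le_map_iff_of_injective H.subtype_injective).1 (hmap.symm ▸ hKV)) with h | h
    · exact Or.inl (by rw [← hmap, h, Subgroup.map_bot])
    · exact Or.inr (by rw [← hmap, h])
  obtain ⟨D, -, hD⟩ := exists_minN (Nor.refl H) (ne_bot_of_prim hp h2)
  have h0 : N.map H.subtype ≠ ⊥ := fun h => hD.ne (eq_bot_iff.2 (h ▸ hle D hD))
  have hnor := Nor.of_normal N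
  let e₀ : N ≃* N.map H.subtype := equivMapOfInjective N H.subtype H.subtype_injective
  rcases S3680.result hp N rfl with ⟨p, -, hc, -⟩ | ⟨T, _, m, hm, hT, hTn, ⟨e⟩⟩
  · refine absurd ⟨hnor, h0, ?_⟩ (hna (N.map H.subtype))
    rintro _ ⟨x, hx, rfl⟩ _ ⟨y, hy, rfl⟩
    exact congrArg (fun z : N => ((z : H) : Perm Ω)) (hc.is_comm.comm ⟨x, hx⟩ ⟨y, hy⟩)
  refine ⟨_, T, inferInstance, m, hnor, h0, hge, ?_, hT, hTn, ⟨e₀.symm.trans e⟩⟩
  by_contra hlt
  obtain rfl : m = 1 := by omega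
  let e₁ : N.map H.subtype ≃* T := (e₀.symm.trans e).trans (MulEquiv.funUnique (Fin 1) T)
  have hs : IsSimpleGroup (N.map H.subtype) := e₁.isSimpleGroup
  have hn : ¬ IsMulCommutative (N.map H.subtype) := fun h => hTn ⟨⟨fun x y => by
    have := congrArg e₁ (h.is_comm.comm (e₁.symm x) (e₁.symm y))
    simpa using this⟩⟩
  refine hns _ ⟨hnor, hs, hn, fun g hg hc => ?_⟩
  by_contra hg1
  have h3 : Cen H (N.map H.subtype) ≠ ⊥ := fun h =>
    hg1 (mem_bot.1 (h ▸ mem_Cen.2 ⟨hg, fun n hn => (hc n hn).symm⟩))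
  obtain ⟨E, hEC, hE⟩ := exists_minN (Nor.cen hnor) h3
  refine hE.ne (eq_bot_iff.2 fun x hx => mem_bot.2 (eq_one_of_central hs ?_ (hle E hE hx) fun t ht =>
    ((mem_Cen.1 (hEC hx)).2 t ht).symm))
  by_contra hcon
  push Not at hcon
  exact hn ⟨⟨fun x y => Subtype.ext (hcon x x.2 y y.2)⟩⟩

/-- no almost simple overgroup -/
theorem no_as {X H M S : Subgroup (Perm Ω)} (s : Sec X H) (hp : IsPreprimitive H Ω) (hna : ∀ V, ¬ Aff H V)
    (hns : ∀ T, ¬ Soc H T) (hM : M ∈ Ov X H) (hcore : ∀ K, Nor M K → K ≤ H → K = ⊥) (hS : Soc M S)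
    (hmin : ∀ D, MinN H D → D ≤ S) : False := by
  have h2 : 2 ≤ Fintype.card Ω := le_trans (by norm_num) s.five
  obtain ⟨a⟩ : Nonempty Ω := Fintype.card_pos_iff.1 (by omega)
  obtain ⟨A, T, _, m, hA, h0, hle, hm, hT, hTn, ⟨e⟩⟩ := exists_socle hp h2 hna hns
  have hAS := hle S hmin
  have tA := tr_of_nor hp hA h0
  have : Finite (Fin m → T) := Finite.of_equiv _ e.toEquiv
  have : Finite T := Finite.of_injective (fun (t : T) (_ : Fin m) => t) fun s t h => congrFun h ⟨0, by omega⟩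
  have htr : IsPretransitive S Ω := ⟨fun x y => by
    obtain ⟨g, hg, e⟩ := tA x y
    exact ⟨⟨g, hAS hg⟩, e⟩⟩
  have hidx : (stabilizer S a).index = Fintype.card Ω := by
    rw [index_stabilizer_of_transitive, Nat.card_eq_fintype_card]
  obtain ⟨⟨e'⟩, -⟩ := S3679.result hS.simple hS.nab hT hTn (A.subgroupOf S) (stabilizer S a)
    (fun h => hS.ne (hcore S hS.toNor ((subgroupOf_eq_top.1 h).trans hA.le)))
    (fun h => by rw [h, index_top] at hidx; omega)
    (fun t => by
      obtain ⟨x, hx, e⟩ := tA a ((t : Perm Ω) a)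
      refine ⟨⟨x, hAS hx⟩, hx, ⟨x, hAS hx⟩⁻¹ * t, ?_, by group⟩
      show x⁻¹ ((t : Perm Ω) a) = a
      rw [← e]
      simp) m hm ((subgroupOfEquivOfLe hAS).trans e)
  have h3 := Nat.card_congr e'.toEquiv
  rw [hidx] at h3
  have : Nontrivial (Fin (Fintype.card Ω)) := Fin.nontrivial_iff_two_le.2 h2
  have h4 := two_mul_nat_card_alternatingGroup (α := Fin (Fintype.card Ω))
  rw [← h3, Nat.card_perm, Nat.card_fin] at h4
  have h5 := S.card_mul_index
  rw [Nat.card_perm, Nat.card_eq_fintype_card (α := Ω), ← h4, mul_comm] at h5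
  have h6 := Perm.eq_alternatingGroup_of_index_eq_two (Nat.eq_of_mul_eq_mul_right Nat.card_pos h5)
  exact s.not_alt_le hM (h6 ▸ hS.le)

theorem boxPow_of (af : AffSoc) : BoxPow := by
  intro Ω _ _ X H s hp hna hns
  have h2 : 2 ≤ Fintype.card Ω := le_trans (by norm_num) s.five
  have : Nonempty Ω := Fintype.card_pos_iff.1 (by omega)
  obtain ⟨D, -, hD⟩ := exists_minN (Nor.refl H) (ne_bot_of_prim hp h2)
  obtain ⟨G⟩ := hD.fc hna
  have tD := tr_of_nor hp hD.toNor hD.ne
  let nz : Subgroup (Perm Ω) → Subgroup (Perm Ω) := fun N => X ⊓ normalizer (N : Set (Perm Ω))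
  have hsub : Ov X H ⊆ {nz D, nz (centralizer (D : Set (Perm Ω))), nz (D ⊔ centralizer (D : Set (Perm Ω)))} ∪
      {M | ∃ c, Lab X G M c} := by
    intro M hM
    by_cases hcore : ∀ K, Nor M K → K ≤ H → K = ⊥
    · right
      rcases struct s hp hna hM hcore with ⟨V, h⟩ | ⟨S, h, h'⟩ | ⟨N, F, hA, ⟨c, hc, h1⟩ | hP⟩
      · obtain ⟨T, hT⟩ := af Ω X H M V s hp hna hM h
        exact absurd hT (hns T)
      · exact (no_as s hp hna hns hM hcore h h').elim
      · exact absurd (F.soc_of_diag hM.2 hc h1 hA.min) (hns _)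
      · exact exists_lab hM G tD hD hA hP hcore
    · left
      push Not at hcore
      obtain ⟨K, hK, hKH, h0⟩ := hcore
      obtain ⟨N, hN, hN0, h⟩ := core_cases hp h2 hna hM.2 hD hK hKH h0
      have h3 : M = nz N := s.eq_normalizer hM hN hN0
      rcases h with h | h | h
      · exact Or.inl (h ▸ h3)
      · exact Or.inr (Or.inl (h ▸ h3))
      · exact Or.inr (Or.inr (h ▸ h3))
  refine (Set.ncard_le_ncard hsub (Set.toFinite _)).trans ((Set.ncard_union_le _ _).trans ?_)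
  have h3 := ncard_lab s tD G
  have h4 : ({nz D, nz (centralizer (D : Set (Perm Ω))), nz (D ⊔ centralizer (D : Set (Perm Ω)))} :
      Set (Subgroup (Perm Ω))).ncard ≤ 3 :=
    (Set.ncard_insert_le _ _).trans (Nat.succ_le_succ ((Set.ncard_insert_le _ _).trans (by simp)))
  omega

end Cfsg.Agent.SM.Pw
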