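import Cfsg.Agent.SM.Pw.Fc

/-!
# SM (S3570): Cartesian decompositions given by a partition of the simple factors (helper59)
-/

set_option autoImplicit false
set_option linter.unusedSectionVars false
set_option linter.unusedVariables false

namespace Cfsg.Agent.SM.Pw

open Equiv Subgroup MulAction

variable {Ω : Type} [Fintype Ω] [DecidableEq Ω]

/-- the stabiliser of a relation -/
def RS (R : Ω → Ω → Prop) : Subgroup (Perm Ω) where
  carrier := {g | ∀ x y, R x y ↔ R (g x) (g y)}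
  one_mem' := fun _ _ => Iff.rfl
  mul_mem' := fun {a b} ha hb x y => (hb x y).trans (ha _ _)
  inv_mem' := fun {a} ha x y => by
    have := ha (a⁻¹ x) (a⁻¹ y)
    simpa using this.symm

theorem le_RS {R : Ω → Ω → Prop} {K : Subgroup (Perm Ω)} (h : ∀ g ∈ K, ∀ x y, R x y → R (g x) (g y)) : K ≤ RS R := by
  intro g hg x y
  refine ⟨h g hg x y, fun h1 => ?_⟩
  simpa using h g⁻¹ (K.inv_mem hg) _ _ h1

/-- transitivity -/
def Tr (N : Subgroup (Perm Ω)) : Prop := ∀ u v : Ω, Orb N u v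

theorem Tr.mono {A B : Subgroup (Perm Ω)} (h : Tr A) (hAB : A ≤ B) : Tr B := fun u v => (h u v).mono hAB

/-- a non-trivial normal subgroup of a primitive group is transitive -/
theorem tr_of_nor {M N : Subgroup (Perm Ω)} (hp : IsPreprimitive M Ω) (h : Nor M N) (h0 : N ≠ ⊥) : Tr N := by
  have := h.normal
  have hfix : fixedPoints (N.subgroupOf M) Ω ≠ Set.univ := by
    intro h1
    apply h0
    rw [eq_bot_iff]
    intro x hx
    rw [mem_bot]
    ext y
    have hy : y ∈ fixedPoints (N.subgroupOf M) Ω := by rw [h1]; exact Set.mem_univ y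
    exact hy ⟨⟨x, h.le hx⟩, hx⟩
  have htr : IsPretransitive (N.subgroupOf M) Ω := IsQuasiPreprimitive.isPretransitive_of_normal hfix
  intro u v
  obtain ⟨g, hg⟩ := exists_smul_eq (N.subgroupOf M) u v
  exact ⟨g, g.2, hg⟩

/-- an element with a fixed point that commutes with a transitive group is trivial -/
theorem Tr.eq_one {C : Subgroup (Perm Ω)} (h : Tr C) {g : Perm Ω} (hc : ∀ x ∈ C, g * x = x * g) {a : Ω}
    (ha : g a = a) : g = 1 := by
  ext u
  obtain ⟨x, hx, rfl⟩ := h a u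
  rw [← Perm.mul_apply, hc x hx, Perm.mul_apply, ha]
  rfl

namespace Fc

variable {M N : Subgroup (Perm Ω)} (F : Fc M N)

/-- partial products -/
def P (B : Fin F.m → Prop) : Subgroup (Perm Ω) where
  carrier := {n | n ∈ N ∧ ∀ j, ¬ B j → F.π j n = 1}
  one_mem' := ⟨N.one_mem, fun j _ => F.one j⟩
  mul_mem' := fun {x y} hx hy => ⟨N.mul_mem hx.1 hy.1, fun j hj => by
    rw [F.mul j _ hx.1 _ hy.1, hx.2 j hj, hy.2 j hj, one_mul]⟩
  inv_mem' := fun {x} hx => ⟨N.inv_mem hx.1, fun j hj => by rw [F.inv j hx.1, hx.2 j hj, inv_one]⟩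

theorem P_le (B : Fin F.m → Prop) : F.P B ≤ N := fun _ hx => hx.1

theorem P_mono {B C : Fin F.m → Prop} (h : ∀ j, B j → C j) : F.P B ≤ F.P C :=
  fun _ hx => ⟨hx.1, fun j hj => hx.2 j fun hb => hj (h j hb)⟩

theorem T_le_P {B : Fin F.m → Prop} {i : Fin F.m} (h : B i) : F.T i ≤ F.P B :=
  fun t ht => ⟨F.le i ht, fun j hj => F.ne j i (fun e => hj (e ▸ h)) t ht⟩

theorem P_le_of {B : Fin F.m → Prop} {K : Subgroup (Perm Ω)} (h : ∀ j, B j → F.T j ≤ K) : F.P B ≤ K :=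
  fun x hx => F.gen K x hx.1 fun j => by
    by_cases hj : B j
    · exact h j hj (F.mem j x)
    · rw [hx.2 j hj]
      exact K.one_mem

theorem P_single (i : Fin F.m) : F.P (fun j => j = i) = F.T i :=
  le_antisymm (F.P_le_of fun j hj => hj ▸ le_rfl) (F.T_le_P rfl)

theorem P_comm {B C : Fin F.m → Prop} (h : ∀ j, B j → ¬ C j) {x y : Perm Ω} (hx : x ∈ F.P B) (hy : y ∈ F.P C) :
    x * y = y * x := by
  refine F.ext' (N.mul_mem hx.1 hy.1) (N.mul_mem hy.1 hx.1) fun j => ?_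
  rw [F.mul j _ hx.1 _ hy.1, F.mul j _ hy.1 _ hx.1]
  by_cases hj : B j
  · rw [hy.2 j (h j hj), mul_one, one_mul]
  · rw [hx.2 j hj, mul_one, one_mul]

/-- the component in a partial product -/
theorem exists_comp (B : Fin F.m → Prop) {n : Perm Ω} (hn : n ∈ N) :
    ∃ x ∈ F.P B, (∀ j, B j → F.π j x = F.π j n) ∧ n * x⁻¹ ∈ F.P fun j => ¬ B j := by
  classical
  obtain ⟨x, hx, h⟩ := F.surj (fun j => if B j then F.π j n else 1) fun j => by
    split_ifs
    · exact F.mem j n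
    · exact one_mem _
  refine ⟨x, ⟨hx, fun j hj => by rw [h, if_neg hj]⟩, fun j hj => by rw [h, if_pos hj],
    N.mul_mem hn (N.inv_mem hx), fun j hj => ?_⟩
  rw [F.mul j _ hn _ (N.inv_mem hx), F.inv j hx, h, if_pos (not_not.1 hj), mul_inv_cancel]

theorem P_conj (g : M) {B C : Fin F.m → Prop} (h : ∀ j, B j → C (F.σ g j)) {x : Perm Ω} (hx : x ∈ F.P B) :
    g * x * (g : Perm Ω)⁻¹ ∈ F.P C := by
  refine ⟨F.nor.conj g g.2 x hx.1, fun j hj => ?_⟩
  obtain ⟨j, rfl⟩ := (F.σ g).surjective j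
  rw [F.π_conj g j hx.1, hx.2 j fun hb => hj (h j hb)]
  simp

/-- the stabiliser of `a` splits along `B` -/
def Sp (B : Fin F.m → Prop) (a : Ω) : Prop := ∀ x ∈ F.P B, ∀ y ∈ F.P fun j => ¬ B j, y (x a) = a → x a = a

theorem two (ht : Tr N) {B : Fin F.m → Prop} {a : Ω} (h : F.Sp B a) : Two (F.P B) (F.P fun j => ¬ B j) a := by
  refine ⟨fun x hx y hy => F.P_comm (fun j hj => not_not.2 hj) hx hy, fun u => ?_, h⟩
  obtain ⟨n, hn, rfl⟩ := ht a u
  obtain ⟨x, hx, -, hy⟩ := F.exists_comp B hn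
  exact ⟨x, hx, _, hy, by simp⟩

/-- splitting in terms of components -/
theorem sp_iff {B : Fin F.m → Prop} {a : Ω} : F.Sp B a ↔
    ∀ n ∈ N, n a = a → ∀ x ∈ F.P B, (∀ j, B j → F.π j x = F.π j n) → x a = a := by
  constructor
  · intro h n hn ha x hx hc
    refine h x hx (n * x⁻¹) ⟨N.mul_mem hn (N.inv_mem hx.1), fun j hj => ?_⟩ (by simpa using ha)
    rw [F.mul j _ hn _ (N.inv_mem hx.1), F.inv j hx.1, hc j (not_not.1 hj), mul_inv_cancel]
  · intro h x hx y hy ha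
    refine h (y * x) (N.mul_mem hy.1 hx.1) ha x hx fun j hj => ?_
    rw [F.mul j _ hy.1 _ hx.1, hy.2 j (not_not.2 hj), one_mul]

theorem Sp.and {B C : Fin F.m → Prop} {a : Ω} (hB : F.Sp B a) (hC : F.Sp C a) : F.Sp (fun j => B j ∧ C j) a := by
  rw [sp_iff] at hB hC ⊢
  intro n hn ha x hx hc
  obtain ⟨y, hy, hyc, -⟩ := F.exists_comp B hn
  refine hC y hy.1 (hB n hn ha y hy hyc) x (F.P_mono (fun j hj => hj.2) hx) fun j hj => ?_
  by_cases hb : B j
  · rw [hc j ⟨hb, hj⟩, hyc j hb]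
  · rw [hx.2 j fun h => hb h.1, hy.2 j hb]

/-- if the stabiliser is the product of its intersections with the factors it splits along every set -/
theorem sp_of_prod {a : Ω} (h : ∀ n ∈ N, n a = a → ∀ i, F.π i n a = a) (B : Fin F.m → Prop) : F.Sp B a := by
  rw [sp_iff]
  intro n hn ha x hx hc
  refine F.gen (stabilizer (Perm Ω) a) x hx.1 fun j => ?_
  by_cases hj : B j
  · rw [hc j hj]
    exact h n hn ha j
  · rw [hx.2 j hj]
    exact one_mem _

/-- **if the even local permutations normalise `N` then the set is a singleton** -/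
theorem single_of_alt_le {B : Fin F.m → Prop} {a : Ω} (t : Two (F.P B) (F.P fun j => ¬ B j) a) {i : Fin F.m}
    (hi : B i) (h : t.alt ≤ M) : F.T i = t.alt := by
  have h5 := t.five_le (F.T_le_P hi) (F.simple i) (F.nab i)
  have hs := t.alt_simple h5
  have h1 := t.simple_le_alt (F.T_le_P hi) (F.simple i) (F.nab i)
  obtain ⟨x, hx, hx1⟩ := F.T_ne_bot i
  have h2 : t.alt ≤ F.P B := by
    refine (le_or_disjoint hs fun g hg y _ hy => ?_).resolve_right fun h3 => hx1 (h3 x (h1 hx) (F.T_le_P hi hx))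
    refine ⟨F.nor.conj g (h hg) y hy.1, fun j hj => ?_⟩
    rw [F.coord j _ (F.nor.conj g (h hg) y hy.1)]
    intro u hu
    obtain ⟨τ, rfl⟩ := t.alt_le_range hg
    have hu' : u ∈ F.P fun j => ¬ B j := F.T_le_P hj hu
    have e1 : Commute (t.loc τ) u := t.loc_comm τ hu'
    have e2 : Commute y u := t.comm y hy u hu'
    exact ((e1.mul_left e2).mul_left e1.inv_left).eq
  refine le_antisymm h1 ((le_or_disjoint hs fun g hg y _ hy => F.conj_mem (h2 hg).1 i hy).resolve_right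
    fun h3 => hx1 (h3 x (h1 hx) hx))

/-- two points in one line of the decomposition -/
def Near {κ : Type} (c : Fin F.m → κ) (u v : Ω) : Prop := ∃ i, Orb (F.P fun j => c j = c i) u v

theorem near_of_conj {κ : Type} {c : Fin F.m → κ} {g : Perm Ω}
    (h : ∀ i, ∃ i', ∀ x ∈ F.P fun j => c j = c i, g * x * g⁻¹ ∈ F.P fun j => c j = c i') (u v : Ω)
    (huv : F.Near c u v) : F.Near c (g u) (g v) := by
  obtain ⟨i, x, hx, rfl⟩ := huv
  obtain ⟨i', hi'⟩ := h i
  exact ⟨i', _, hi' x hx, by simp⟩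

theorem le_RS_near {κ : Type} {c : Fin F.m → κ} (h : ∀ g : M, ∀ i j, c i = c j → c (F.σ g i) = c (F.σ g j)) :
    M ≤ RS (F.Near c) :=
  le_RS fun g hg => F.near_of_conj fun i => ⟨F.σ ⟨g, hg⟩ i, fun x hx => F.P_conj ⟨g, hg⟩ (fun j hj => h _ j i hj) hx⟩

theorem loc_le_RS {κ : Type} {c : Fin F.m → κ} {B : Fin F.m → Prop} {a : Ω}
    (t : Two (F.P B) (F.P fun j => ¬ B j) a) {i : Fin F.m} (hB : ∀ j, B j → c j = c i) :
    t.loc.range ≤ RS (F.Near c) := by
  refine le_RS ?_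
  rintro _ ⟨τ, rfl⟩ u v ⟨k, huv⟩
  by_cases hk : c k = c i
  · have h1 : F.P B ≤ F.P fun j => c j = c k := F.P_mono fun j hj => (hB j hj).trans hk.symm
    exact ⟨k, (((t.loc_orb τ u).mono h1).symm.trans huv).trans ((t.loc_orb τ v).mono h1)⟩
  · obtain ⟨x, hx, rfl⟩ := huv
    refine ⟨k, x, hx, ?_⟩
    have hx' : x ∈ F.P fun j => ¬ B j := F.P_mono (fun j (hj : c j = c k) (hb : B j) => hk (hj.symm.trans (hB j hb))) hx
    rw [← Perm.mul_apply, ← t.loc_comm τ hx', Perm.mul_apply]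

theorem exists_move (ht : Tr N) {B : Fin F.m → Prop} {a : Ω} (h : F.Sp B a) {i : Fin F.m} (hi : B i) :
    ∃ x ∈ F.P B, x a ≠ a := by
  by_contra hcon
  push Not at hcon
  obtain ⟨x, hx, hx1⟩ := F.T_ne_bot i
  apply hx1
  ext u
  obtain ⟨y, hy, ⟨_, z, hz, rfl⟩, rfl⟩ := (F.two ht h).cover u
  show x (y (z a)) = y (z a)
  rw [(F.two ht h).comm' (F.T_le_P hi hx) hy, hcon z hz, hcon x (F.T_le_P hi hx)]

theorem not_alt_le_RS (h5 : 5 ≤ Fintype.card Ω) (ht : Tr N) {κ : Type} {c : Fin F.m → κ} {a : Ω}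
    (h : ∀ i, F.Sp (fun j => c j = c i) a) {i k : Fin F.m} (hik : c i ≠ c k) :
    ¬ alternatingGroup Ω ≤ RS (F.Near c) := by
  obtain ⟨x, hx, hxa⟩ := F.exists_move ht (h i) rfl
  obtain ⟨y, hy, hya⟩ := F.exists_move ht (h k) rfl
  have hy' : y ∈ F.P fun j => ¬ c j = c i := F.P_mono (fun j (hj : c j = c k) (e : c j = c i) => hik (e.symm.trans hj)) hy
  have hx' : x ∈ F.P fun j => ¬ c j = c k := F.P_mono (fun j (hj : c j = c i) (e : c j = c k) => hik (hj.symm.trans e)) hx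
  have hxy := F.P_comm (fun j hj => not_not.2 hj) hx hy'
  refine H936.not_alt_le_of_rel (by rw [Nat.card_eq_fintype_card]; omega) (F.Near c) (x := a) (y := x a)
    (z := y (x a)) (fun w hw u v huv => (hw u v).1 huv) hxa.symm (fun e => hxa (h i x hx y hy' e.symm))
    ⟨i, x, hx, rfl⟩ ?_
  rintro ⟨l, z, hz, e⟩
  by_cases hl : c l = c i
  · have hz' : z ∈ F.P fun j => ¬ c j = c k := 
      F.P_mono (fun j (hj : c j = c l) (e : c j = c k) => hik ((hj.trans hl).symm.trans e)) hz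
    refine hya (h k y hy (z⁻¹ * x) (mul_mem (inv_mem hz') hx') ?_)
    rw [Perm.mul_apply, ← Perm.mul_apply x, hxy, Perm.mul_apply, ← e]
    simp
  · have hz' : z ∈ F.P fun j => ¬ c j = c i := 
      F.P_mono (fun j (hj : c j = c l) (e : c j = c i) => hl (hj.symm.trans e)) hz
    refine hxa (h i x hx (z⁻¹ * y) (mul_mem (inv_mem hz') hy') ?_)
    rw [Perm.mul_apply, ← e]
    simp

/-- **a maximal subgroup that preserves a Cartesian decomposition** -/
theorem cart {X H : Subgroup (Perm Ω)} (s : Sec X H) (hM : M ∈ Ov X H) (ht : Tr N) {κ : Type} {c : Fin F.m → κ}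
    (hc : ∀ g : M, ∀ i j, c i = c j → c (F.σ g i) = c (F.σ g j)) {a : Ω}
    (h : ∀ i, F.Sp (fun j => c j = c i) a) {i k : Fin F.m} (hik : c i ≠ c k) :
    M = X ⊓ RS (F.Near c) ∧ Function.Injective c ∧ ∀ i, F.T i = (F.two ht (h i)).alt := by
  have h1 := s.eq_inf hM (F.le_RS_near hc) (F.not_alt_le_RS s.five ht h hik)
  have h2 : ∀ i, (F.two ht (h i)).alt ≤ M := by
    intro i
    refine le_of_le_of_eq ?_ h1.symm
    exact le_inf (((F.two ht (h i)).alt_le_alt
      ((F.two ht (h i)).five_le (F.T_le_P rfl) (F.simple i) (F.nab i))).trans s.alt)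
      ((F.two ht (h i)).alt_le_range.trans (F.loc_le_RS _ fun j hj => hj))
  refine ⟨h1, fun i j hij => F.inj ?_, fun i => F.single_of_alt_le _ rfl (h2 i)⟩
  rw [F.single_of_alt_le (F.two ht (h j)) hij (h2 j), F.single_of_alt_le (F.two ht (h j)) rfl (h2 j)]

end Fc

end Cfsg.Agent.SM.Pw
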