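import Cfsg.Agent.SM.Pw.Part

/-!
# SM (S3570): at most eight overgroups of product type in which `H` is core-free (helper59)
-/

set_option autoImplicit false
set_option linter.unusedSectionVars false
set_option linter.unusedVariables false

namespace Cfsg.Agent.SM.Pw

open Equiv Subgroup MulAction

variable {Ω : Type} [Fintype Ω] [DecidableEq Ω]

/-- `M` is the stabiliser of the Cartesian decomposition given by a partition of the factors of `D` -/
structure Lab (X : Subgroup (Perm Ω)) {H D : Subgroup (Perm Ω)} (G : Fc H D) (M : Subgroup (Perm Ω))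
    (c : Fin G.m → ℕ) : Prop where
  ov : M ∈ Ov X H
  eq : M = X ⊓ RS (G.Near c)
  inv : ∀ g : H, ∀ i j, c i = c j → c (G.σ g i) = c (G.σ g j)
  sp : ∀ a i, G.Sp (fun j => c j = c i) a
  two : ∃ i j, c i ≠ c j
  nn : ¬ M ≤ normalizer (D : Set (Perm Ω))

theorem exists_lab {X H D M N : Subgroup (Perm Ω)} (hM : M ∈ Ov X H) (G : Fc H D) (tD : Tr D) (hD : MinN H D)
    [Nonempty Ω] {F : Fc M N} (hA : PA X H F) (hP : ∀ n ∈ N, n ∈ H ↔ ∀ i, F.π i n ∈ H)
    (hcore : ∀ K, Nor M K → K ≤ H → K = ⊥) : ∃ c, Lab X G M c := by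
  have hDN := hA.min D hD
  choose f hf using fun j => F.exists_le_T hP G.nor hDN ⟨G.le j, fun g hg x hx => G.conj_mem hg j hx⟩
    (G.simple j) (G.nab j)
  have huniq : ∀ j i, G.T j ≤ F.T i → f j = i := by
    intro j i h
    by_contra hne
    obtain ⟨t, ht, h1⟩ := G.T_ne_bot j
    exact h1 ((F.self _ t (hf j ht)).symm.trans (F.ne _ _ hne t (h ht)))
  have hle : ∀ i, (G.P fun j => f j = i) ≤ F.T i := fun i => G.P_le_of fun j hj => hj ▸ hf j
  have hπ : ∀ i, ∀ x ∈ G.P fun j => f j = i, ∀ y ∈ G.P fun j => ¬ f j = i, F.π i (y * x) = x := by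
    intro i x hx y hy
    have h1 : (G.P fun j => ¬ f j = i) ≤ F.P fun l => ¬ l = i := G.P_le_of fun j hj => (hf j).trans (F.T_le_P hj)
    rw [F.mul i _ (hDN hy.1) _ (hDN hx.1), (h1 hy).2 i (not_not.2 rfl), one_mul, F.self i x (hle i hx)]
  have horb : ∀ i u v, Orb (F.T i) u v → Orb (G.P fun j => f j = i) u v := by
    rintro i u _ ⟨s, hs, rfl⟩
    obtain ⟨d, hd, e⟩ := tD u (s u)
    obtain ⟨x, hx, -, hy⟩ := G.exists_comp (fun j => f j = i) hd
    have h1 := hA.prod u (s⁻¹ * d) (N.mul_mem (N.inv_mem (F.le i hs)) (hDN hd)) (by rw [Perm.mul_apply, e]; simp) i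
    have h2 := hπ i x hx _ hy
    rw [inv_mul_cancel_right] at h2
    rw [F.mul i _ (N.inv_mem (F.le i hs)) _ (hDN hd), F.self i _ (inv_mem hs), h2, Perm.mul_apply,
      Perm.inv_eq_iff_eq] at h1
    exact ⟨x, hx, h1⟩
  have hval : ∀ j, (fun l => (f l : ℕ) = f j) = fun l => f l = f j := fun j => funext fun l => propext Fin.val_inj
  refine ⟨fun j => f j, hM, ?_, fun g i j hij => ?_, fun a i => ?_, ?_, fun h => hD.ne (hcore D (Nor.of_le ?_ h) hD.le)⟩
  · refine hA.eq.trans ?_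
    congr 2
    funext u v
    apply propext
    constructor
    · rintro ⟨i, h⟩
      have h1 := horb i u v (F.P_single i ▸ h)
      by_cases hi : ∃ j, f j = i
      · obtain ⟨j, rfl⟩ := hi
        exact ⟨j, (hval j).symm ▸ h1⟩
      · obtain ⟨x, hx, rfl⟩ := h1
        rw [G.ext hx.1 fun j => hx.2 j fun e => hi ⟨j, e⟩]
        exact ⟨⟨0, G.pos⟩, Orb.refl _ _⟩
    · rintro ⟨j, h⟩
      rw [hval j] at h
      exact ⟨f j, h.mono ((hle _).trans (F.T_le_P (B := fun l => id l = id (f j)) rfl))⟩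
  · have h1 : ∀ j, f (G.σ g j) = F.σ ⟨g, hM.2 g.2⟩ (f j) := fun j => huniq _ _ fun t ht => by
      have h2 := (F.spec ⟨g, hM.2 g.2⟩ (f j) _).1 (hf j ((G.spec g j ((g : Perm Ω)⁻¹ * t * g)).2 (by
        simpa [mul_assoc] using ht)))
      simpa [mul_assoc] using h2
    show (f (G.σ g i) : ℕ) = f (G.σ g j)
    rw [h1, h1, Fin.val_inj.1 hij]
  · show G.Sp (fun l => (f l : ℕ) = f i) a
    rw [hval i]
    intro x hx y hy h
    have := hA.prod a (y * x) (N.mul_mem (hDN hy.1) (hDN hx.1)) h (f i)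
    rwa [hπ _ x hx y hy] at this
  · by_contra hcon
    push Not at hcon
    refine hA.not_tr (f ⟨0, G.pos⟩) (tD.mono fun d hd => G.gen _ d hd fun j => ?_)
    rw [← Fin.val_inj.1 (hcon j _)]
    exact hf j (G.mem j d)
  · exact hD.le.trans hM.2

namespace Lab

variable {X H D : Subgroup (Perm Ω)} {G : Fc H D} {M M₁ M₂ : Subgroup (Perm Ω)} {c c₁ c₂ : Fin G.m → ℕ}

theorem inv' (h : Lab X G M c) (g : H) (i j : Fin G.m) : c (G.σ g i) = c (G.σ g j) ↔ c i = c j := by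
  refine ⟨fun e => ?_, h.inv g i j⟩
  have := h.inv g⁻¹ _ _ e
  simpa using this

theorem eq_of_rel (h₁ : Lab X G M₁ c₁) (h₂ : Lab X G M₂ c₂) (h : ∀ i j, c₁ i = c₁ j ↔ c₂ i = c₂ j) : M₁ = M₂ := by
  refine h₁.eq.trans (Eq.trans ?_ h₂.eq.symm)
  congr 2
  funext u v
  have h3 : ∀ i, (fun j => c₁ j = c₁ i) = fun j => c₂ j = c₂ i := fun i => funext fun j => propext (h j i)
  unfold Fc.Near
  simp only [h3]

theorem eq_of_class (h₁ : Lab X G M₁ c₁) (h₂ : Lab X G M₂ c₂) (i₀ : Fin G.m)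
    (h : ∀ j, c₁ j = c₁ i₀ ↔ c₂ j = c₂ i₀) : M₁ = M₂ := by
  refine h₁.eq_of_rel h₂ fun i j => ?_
  obtain ⟨g, hg⟩ := G.trans j i₀
  rw [← h₁.inv' g, ← h₂.inv' g, hg, h]

theorem partner (h : Lab X G M c) (hn : ¬ Function.Injective c) (i : Fin G.m) : ∃ j, j ≠ i ∧ c j = c i := by
  obtain ⟨x, y, e, hxy⟩ := Function.not_injective_iff.1 hn
  obtain ⟨g, rfl⟩ := G.trans y i
  exact ⟨G.σ g x, fun e => hxy ((G.σ g).injective e), h.inv g x y e⟩

/-- two different partitions have discrete intersection -/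
theorem meet (s : Sec X H) (tD : Tr D) (h₁ : Lab X G M₁ c₁) (h₂ : Lab X G M₂ c₂) (hne : M₁ ≠ M₂) {i j : Fin G.m}
    (e₁ : c₁ j = c₁ i) (e₂ : c₂ j = c₂ i) : j = i := by
  obtain ⟨a⟩ : Nonempty Ω := Fintype.card_pos_iff.1 (by have := s.five; omega)
  have t := G.two tD (Fc.Sp.and G (h₁.sp a i) (h₂.sp a i))
  have h3 : t.alt ≤ X := (t.alt_le_alt (t.five_le (G.T_le_P ⟨rfl, rfl⟩) (G.simple i) (G.nab i))).trans s.alt
  have h4 : t.alt ≤ H := by
    refine le_of_le_of_eq ?_ (s.inf_eq h₁.ov h₂.ov hne)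
    exact le_inf (le_of_le_of_eq (le_inf h3 (t.alt_le_range.trans (G.loc_le_RS t fun j hj => hj.1))) h₁.eq.symm)
      (le_of_le_of_eq (le_inf h3 (t.alt_le_range.trans (G.loc_le_RS t fun j hj => hj.2))) h₂.eq.symm)
  exact G.inj ((G.single_of_alt_le t ⟨e₁, e₂⟩ h4).trans (G.single_of_alt_le t ⟨rfl, rfl⟩ h4).symm)

/-- two different non-discrete partitions have two classes -/
theorem no_three (s : Sec X H) (tD : Tr D) (h₁ : Lab X G M₁ c₁) (h₂ : Lab X G M₂ c₂) (hne : M₁ ≠ M₂)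
    (n₁ : ¬ Function.Injective c₁) (n₂ : ¬ Function.Injective c₂) {x y z : Fin G.m} (hxy : c₁ x ≠ c₁ y)
    (hxz : c₁ x ≠ c₁ z) : c₁ y = c₁ z := by
  by_contra hyz
  obtain ⟨a⟩ : Nonempty Ω := Fintype.card_pos_iff.1 (by have := s.five; omega)
  obtain ⟨k, hk, hk'⟩ := h₂.partner n₂ x
  obtain ⟨j, hj, hj'⟩ := h₁.partner n₁ x
  have hkx : c₁ k ≠ c₁ x := fun e => hk (meet s tD h₁ h₂ hne e hk')
  obtain ⟨u, hux, huk⟩ : ∃ u, c₁ u ≠ c₁ x ∧ c₁ u ≠ c₁ k := by
    by_cases e : c₁ y = c₁ k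
    · exact ⟨z, hxz.symm, fun e' => hyz (e.trans e'.symm)⟩
    · exact ⟨y, hxy.symm, e⟩
  obtain ⟨h, hh⟩ := G.trans x u
  obtain ⟨g, hga, hg⟩ := G.trans_of_sup (Fc.sup_stab tD a) x j
  have t := G.two tD (h₁.sp a x)
  have hgB : ∀ p, p ∈ (G.P fun l => c₁ l = c₁ x) ↔ g * p * (g : Perm Ω)⁻¹ ∈ G.P fun l => c₁ l = c₁ x := by
    intro p
    refine ⟨G.P_conj g fun l hl => (h₁.inv g l x hl).trans (hg ▸ hj'), fun hp => ?_⟩
    have h3 := G.P_conj g⁻¹ (C := fun l => c₁ l = c₁ x) (fun l (hl : c₁ l = c₁ x) => by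
      rw [← h₁.inv' g, hg, hj', ← hl]
      simp) hp
    simpa [mul_assoc] using h3
  set w := t.loc ((g : Perm Ω).subtypePerm (orb_apply_of_conj hga hgB)) with hw
  have hw1 : ∀ p ∈ G.P fun l => c₁ l = c₁ x, w * p * w⁻¹ = g * p * (g : Perm Ω)⁻¹ := fun p hp => t.loc_conj hga hgB hp
  have hw2 : ∀ p ∈ G.P fun l => ¬ c₁ l = c₁ x, w * p * w⁻¹ = p := fun p hp => by
    rw [t.loc_comm _ hp, mul_inv_cancel_right]
  have hwR : w ∈ RS (G.Near c₁) := G.loc_le_RS t (fun j hj => hj) ⟨_, rfl⟩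
  have hwN : w ∈ normalizer (D : Set (Perm Ω)) := by
    refine mem_normalizer_fintype fun d hd => ?_
    obtain ⟨p, hp, -, hq⟩ := G.exists_comp (fun l => c₁ l = c₁ x) hd
    have h3 : w * d * w⁻¹ = (w * (d * p⁻¹) * w⁻¹) * (w * p * w⁻¹) := by group
    rw [h3, hw2 _ hq, hw1 _ hp]
    exact D.mul_mem hq.1 (G.nor.conj g g.2 p hp.1)
  have hHR : H ≤ RS (G.Near c₁) := G.le_RS_near h₁.inv
  have hHN := G.nor.le_normalizer
  have hv : w * (h * w * (h : Perm Ω)⁻¹) ∈ M₁ ⊓ normalizer (D : Set (Perm Ω)) := by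
    refine ⟨le_of_le_of_eq le_rfl h₁.eq.symm ⟨s.alt ?_, ?_⟩, ?_⟩
    · rw [Perm.mem_alternatingGroup]
      simp only [Perm.sign_mul, Perm.sign_inv]
      rcases Int.units_eq_one_or (Perm.sign w) with e | e <;>
        rcases Int.units_eq_one_or (Perm.sign (h : Perm Ω)) with e' | e' <;> simp [e, e']
    · exact Subgroup.mul_mem _ hwR (Subgroup.mul_mem _ (Subgroup.mul_mem _ (hHR h.2) hwR) (Subgroup.inv_mem _ (hHR h.2)))
    · exact Subgroup.mul_mem _ hwN (Subgroup.mul_mem _ (Subgroup.mul_mem _ (hHN h.2) hwN) (Subgroup.inv_mem _ (hHN h.2)))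
  have hvH : w * (h * w * (h : Perm Ω)⁻¹) ∈ H := by
    rcases s.eq_or_eq h₁.ov (le_inf h₁.ov.2 hHN) inf_le_left with e | e
    · exact e ▸ hv
    · exact absurd (inf_eq_left.1 e) h₁.nn
  have hfix : ∀ l, c₁ l ≠ c₁ u → ∀ p ∈ G.T l, (h * w * (h : Perm Ω)⁻¹) * p * (h * w * (h : Perm Ω)⁻¹)⁻¹ = p := by
    intro l hl p hp
    have h3 := (G.spec h⁻¹ l p).1 hp
    have h4 := hw2 _ (G.T_le_P (B := fun l => ¬ c₁ l = c₁ x) (fun e => hl (by
      have h5 := h₁.inv h _ _ e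
      rw [hh] at h5
      simpa using h5)) h3)
    calc (h * w * (h : Perm Ω)⁻¹) * p * (h * w * (h : Perm Ω)⁻¹)⁻¹
        = h * (w * (((h⁻¹ : H) : Perm Ω) * p * ((h⁻¹ : H) : Perm Ω)⁻¹) * w⁻¹) * (h : Perm Ω)⁻¹ := by
          rw [Subgroup.coe_inv]; group
      _ = p := by rw [h4, Subgroup.coe_inv]; group
  have hconj : ∀ p, w * (h * w * (h : Perm Ω)⁻¹) * p * (w * (h * w * (h : Perm Ω)⁻¹))⁻¹ =
      w * ((h * w * (h : Perm Ω)⁻¹) * p * (h * w * (h : Perm Ω)⁻¹)⁻¹) * w⁻¹ := fun p => by group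
  have e1 : G.σ ⟨_, hvH⟩ k = k := G.σ_eq _ fun p hp => by
    show w * (h * w * (h : Perm Ω)⁻¹) * p * (w * (h * w * (h : Perm Ω)⁻¹))⁻¹ ∈ _
    rw [hconj, hfix k huk.symm p hp, hw2 p (G.T_le_P hkx hp)]
    exact hp
  have e2 : G.σ ⟨_, hvH⟩ x = j := G.σ_eq _ fun p hp => by
    show w * (h * w * (h : Perm Ω)⁻¹) * p * (w * (h * w * (h : Perm Ω)⁻¹))⁻¹ ∈ _
    rw [hconj, hfix x hux.symm p hp, hw1 p (G.T_le_P (B := fun l => c₁ l = c₁ x) rfl hp), ← hg]
    exact (G.spec g x p).1 hp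
  have e3 := h₂.inv ⟨_, hvH⟩ _ _ hk'
  rw [e1, e2] at e3
  exact hj (meet s tD h₁ h₂ hne hj' (e3.symm.trans hk'))

theorem le_four (s : Sec X H) (tD : Tr D) (h₁ : Lab X G M₁ c₁) (h₂ : Lab X G M₂ c₂) (hne : M₁ ≠ M₂)
    (n₁ : ¬ Function.Injective c₁) (n₂ : ¬ Function.Injective c₂) : G.m ≤ 4 := by
  classical
  let i : Fin G.m := ⟨0, G.pos⟩
  have h : Function.Injective fun j => ((c₁ i = c₁ j, c₂ i = c₂ j) : Prop × Prop) := by
    intro j l e
    have e1 : c₁ i = c₁ j ↔ c₁ i = c₁ l := iff_of_eq (congrArg Prod.fst e)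
    have e2 : c₂ i = c₂ j ↔ c₂ i = c₂ l := iff_of_eq (congrArg Prod.snd e)
    refine meet s tD h₁ h₂ hne ?_ ?_
    · by_cases e3 : c₁ i = c₁ j
      · exact e3.symm.trans (e1.1 e3)
      · exact no_three s tD h₁ h₂ hne n₁ n₂ e3 fun e4 => e3 (e1.2 e4)
    · by_cases e3 : c₂ i = c₂ j
      · exact e3.symm.trans (e2.1 e3)
      · exact no_three s tD h₂ h₁ hne.symm n₂ n₁ e3 fun e4 => e3 (e2.2 e4)
  simpa using Fintype.card_le_of_injective _ h

end Lab

theorem ncard_lab {X H D : Subgroup (Perm Ω)} (s : Sec X H) (tD : Tr D) (G : Fc H D) :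
    {M | ∃ c, Lab X G M c}.ncard ≤ 8 := by
  classical
  have hc : ∀ M : {M | ∃ c, Lab X G M c}, ∃ c, Lab X G M c := fun M => M.2
  choose c hc using hc
  rw [← Nat.card_coe_set_eq]
  by_cases h4 : G.m ≤ 4
  · let i : Fin G.m := ⟨0, G.pos⟩
    have h : Function.Injective fun M => fun j : {j // j ≠ i} => c M j = c M i := by
      intro M₁ M₂ e
      refine Subtype.ext ((hc M₁).eq_of_class (hc M₂) i fun j => ?_)
      by_cases hj : j = i
      · simp [hj]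
      · exact iff_of_eq (congrFun e ⟨j, hj⟩)
    refine (Nat.card_le_card_of_injective _ h).trans ?_
    rw [Nat.card_fun, Nat.card_eq_fintype_card, Nat.card_eq_fintype_card, Fintype.card_prop]
    have h5 : Fintype.card {j // j ≠ i} ≤ 3 := by
      rw [Fintype.card_subtype_compl, Fintype.card_fin, Fintype.card_unique]
      omega
    exact (Nat.pow_le_pow_right (by norm_num) h5).trans (by norm_num)
  · have h : Function.Injective fun M => Function.Injective (c M) := by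
      intro M₁ M₂ e
      have e1 : Function.Injective (c M₁) ↔ Function.Injective (c M₂) := iff_of_eq e
      apply Subtype.ext
      by_cases h1 : Function.Injective (c M₁)
      · exact (hc M₁).eq_of_rel (hc M₂) fun i j => h1.eq_iff.trans (e1.1 h1).eq_iff.symm
      · by_contra hne
        exact h4 (Lab.le_four s tD (hc M₁) (hc M₂) hne h1 fun h2 => h1 (e1.2 h2))
    refine (Nat.card_le_card_of_injective _ h).trans ?_
    rw [Nat.card_eq_fintype_card, Fintype.card_prop]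
    norm_num

end Cfsg.Agent.SM.Pw
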