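import Cfsg.Agent.S3722
import Cfsg.Agent.S3723
import Cfsg.Agent.SM.Ex78.Base
import Cfsg.Agent.H551.Pi.SpNoncyc
import Cfsg.Agent.SylowSp4.Recog

/-!
# SM (S3570): a simple group of order `r ^ m` is not a product of two subgroups of index `r` (helper76)

`noPow`.
-/

set_option autoImplicit false

namespace Cfsg.Agent.SM.Pw

open Cfsg

theorem psp_row (F : Type) [Field F] [Fintype F] {p y : ℕ} (hp : p.Prime) (hy : p ^ 2 + 1 = 2 * y ^ 2)
    (hF : Fintype.card F = p) : ∃ t : ℕ, t.Prime ∧ t ∣ Nat.card (PSp 2 F) ∧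
      ∀ P : Subgroup (PSp 2 F), IsPGroup t P → IsCyclic P := by
  have hp2 := hp.two_le
  have hpo : p % 2 = 1 := by
    rcases Nat.mod_two_eq_zero_or_one p with h | h
    · have h1 : p ^ 2 % 2 = 0 := by rw [Nat.pow_mod, h]
      omega
    · exact h
  have hy1 : y ≠ 1 := by
    rintro rfl
    nlinarith
  obtain ⟨t, ht, hty⟩ := Nat.exists_prime_and_dvd hy1
  have htp : t ∣ p ^ 2 + 1 := by
    rw [hy]
    exact Dvd.dvd.mul_left (dvd_pow hty (by norm_num)) _
  have ht2 : t ≠ 2 := by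
    rintro rfl
    obtain ⟨z, rfl⟩ := hty
    obtain ⟨w, hw⟩ : ∃ w, p = 2 * w + 1 := ⟨p / 2, by omega⟩
    subst hw
    have h1 : (2 * w + 1) ^ 2 + 1 = 4 * (w ^ 2 + w) + 2 := by ring
    have h2 : 2 * (2 * z) ^ 2 = 4 * (2 * z ^ 2) := by ring
    omega
  have hfin : Finite (PSp 2 F) := Quotient.finite _
  have := Fact.mk ht
  have h1 : 1 ≤ p ^ 2 := Nat.one_le_pow _ _ hp.pos
  refine ⟨t, ht, ?_, fun P hP => ?_⟩
  · have h2 := SylowSp4.Recog.card_PSp (F := F) (by rw [hF, Nat.odd_iff]; exact hpo)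
    rw [hF] at h2
    have h3 : p ^ 4 - 1 = (p ^ 2 + 1) * (p ^ 2 - 1) := by
      rw [← Nat.sq_sub_sq, one_pow, ← pow_mul]
    have h4 : t ∣ Nat.card (PSp 2 F) * 2 := by
      rw [h2, h3]
      exact Dvd.dvd.mul_left (Dvd.dvd.mul_left (Dvd.dvd.mul_right htp _) _) _
    rcases ht.dvd_mul.1 h4 with h5 | h5
    · exact h5
    · exact absurd ((Nat.prime_dvd_prime_iff_eq ht Nat.prime_two).1 h5) ht2
  · obtain ⟨Q, hQ⟩ := hP.exists_le_sylow
    have hc : IsCyclic (Q : Subgroup (PSp 2 F)) := by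
      by_contra hn
      have htF : (t : F) ≠ 0 := by
        intro h0
        have h5 : t ∣ p := by
          rw [← hF]
          exact (_root_.prime_dvd_char_iff_dvd_card t).1 ((ringChar.spec F t).1 h0 |> fun h => by
            have hr := (CharP.char_is_prime F (ringChar F))
            rw [(Nat.prime_dvd_prime_iff_eq hr ht).1 h])
        have h6 : t ∣ 1 := (Nat.dvd_add_right (dvd_pow h5 (by norm_num))).1 htp
        exact ht.one_lt.ne' (Nat.dvd_one.1 h6)
      obtain ⟨e, he1, he2, he⟩ := H551.PiSp.exists_exponent ht2 htF Q hn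
      have he3 : e = 1 := by omega
      rw [he3, Nat.card_eq_fintype_card, hF, mul_one] at he
      have h7 : t ∣ 2 := by
        have h8 : p ^ 2 + 1 = (p ^ 2 - 1) + 2 := by omega
        rw [h8] at htp
        exact (Nat.dvd_add_right he).1 htp
      exact ht2 ((Nat.prime_dvd_prime_iff_eq ht Nat.prime_two).1 h7)
    exact _root_.isCyclic_of_injective (Subgroup.inclusion hQ) (Subgroup.inclusion_injective hQ)

/-- **a simple group of order `r ^ m`, `m ≥ 2`, is not the product of two subgroups of index `r`** -/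
theorem noPow (S : Type) [Group S] [Finite S] [IsSimpleGroup S] (R1 R2 : Subgroup S) (r m : ℕ) (hm : 2 ≤ m)
    (hc : Nat.card S = r ^ m) (h1 : R1.index = r) (h2 : R2.index = r)
    (hf : ∀ g : S, ∃ x ∈ R1, ∃ y ∈ R2, g = x * y) : False := by
  rcases Nat.lt_or_ge m 3 with h3 | h3
  · have h4 : m = 2 := by omega
    subst h4
    obtain ⟨F, iF, iF', p, y, hp, hy, hF, ⟨e⟩⟩ := (S3723.result (G := S)).1 ⟨r, hc⟩
    obtain ⟨t, ht, htd, htc⟩ := psp_row F hp hy hF
    rw [← Nat.card_congr e.toEquiv, hc] at htd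
    have h5 : t ∣ r := ht.dvd_of_dvd_pow htd
    have h6 := Ex78.Pd.cyc (X := R1) (Y := R2) hf ht fun P hP => by
      have h7 := htc (P.map e.toMonoidHom) (hP.map _)
      exact _root_.isCyclic_of_injective (P.equivMapOfInjective e.toMonoidHom e.injective).toMonoidHom
        (P.equivMapOfInjective e.toMonoidHom e.injective).injective
    rw [h1, h2] at h6
    rcases h6 with h6 | h6 <;> exact h6 h5
  · exact S3722.result r m h3 hc

end Cfsg.Agent.SM.Pw
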