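import Cfsg.Agent.SM.Pw.Pos
import Cfsg.Agent.SM.Pw.NoPow

/-!
# SM (S3570): overgroups of diagonal type contain their socle in `H` (helper59)
-/

set_option autoImplicit false
set_option linter.unusedSectionVars false
set_option linter.unusedVariables false

namespace Cfsg.Agent.SM.Pw

open Equiv Subgroup MulAction

variable {Ω : Type} [Fintype Ω] [DecidableEq Ω]

theorem ne_bot_of_prim {H : Subgroup (Perm Ω)} (hp : IsPreprimitive H Ω) (h2 : 2 ≤ Fintype.card Ω) : H ≠ ⊥ := by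
  rintro rfl
  have : Nontrivial Ω := Fintype.one_lt_card_iff_nontrivial.1 h2
  obtain ⟨x, y, hxy⟩ := exists_pair_ne Ω
  obtain ⟨g, hg⟩ := exists_smul_eq (⊥ : Subgroup (Perm Ω)) x y
  rw [Subsingleton.elim g 1, one_smul] at hg
  exact hxy hg

/-- the socle of an almost simple primitive group is larger than the degree -/
theorem soc_card {H T : Subgroup (Perm Ω)} (h : Soc H T) (hp : IsPreprimitive H Ω) (h2 : 2 ≤ Fintype.card Ω) (a : Ω) :
    2 * Fintype.card Ω ≤ Nat.card T := by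
  have h1 := h.as.inf_ne_bot (stab_covBy hp h2 a) fun k => h.not_le_stab hp h2 a (k.trans inf_le_right)
  have h3 : T ⊓ stabilizer (Perm Ω) a ≠ ⊥ := fun k => h1 (eq_bot_iff.2 (k ▸ inf_le_inf_left _ inf_le_right))
  rw [(tr_of_nor hp h.toNor h.ne).card a, mul_comm]
  exact Nat.mul_le_mul_left _ ((one_lt_card_iff_ne_bot _).2 h3)

namespace Fc

variable {M N : Subgroup (Perm Ω)} (F : Fc M N)

theorem one_lt_card (i : Fin F.m) : 1 < Nat.card (F.T i) := by
  obtain ⟨t, ht, h1⟩ := F.T_ne_bot i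
  exact (one_lt_card_iff_ne_bot _).2 fun h => h1 (mem_bot.1 (h ▸ ht))

theorem no_diag {H : Subgroup (Perm Ω)} (hH : H ≤ M) (hp : IsPreprimitive H Ω) (h2 : 2 ≤ Fintype.card Ω) (a : Ω)
    {c : Fin F.m → Fin F.m} (hD : Dg N F.T F.π F.σ (M ⊓ stabilizer (Perm Ω) a) c) (h1 : ∀ i j, c i = c j)
    (hsup : ∀ g ∈ M, ∃ n ∈ N, g * n ∈ H) (hNH : ¬ N ≤ H) (hmin : ∀ D, MinN H D → D ≤ N)
    (hsc : (∀ n ∈ N, n ∈ H ↔ ∀ i, F.π i n ∈ H) ∨ ∃ c', Dg N F.T F.π F.σ H c') : False := by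
  classical
  have hm := F.two_le hD
  obtain ⟨D, -, hDm⟩ := exists_minN (Nor.refl H) (ne_bot_of_prim hp h2)
  have htr : Tr (N ⊓ H) := (tr_of_nor hp hDm.toNor hDm.ne).mono (le_inf (hmin D hDm) hDm.le)
  have hK : N ⊓ (M ⊓ stabilizer (Perm Ω) a) = N ⊓ stabilizer (Perm Ω) a := by
    rw [← inf_assoc, inf_eq_left.2 F.nor.le]
  have hcard := F.card_of_diag (htr.mono inf_le_left) hK hD h1
  set U := N ⊓ (M ⊓ stabilizer (Perm Ω) a) with hU
  have hUm : ∀ u ∈ N, u a = a → u ∈ U := fun u hu ha => ⟨hu, F.nor.le hu, ha⟩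
  have hdec : ∀ n ∈ N, ∃ h ∈ N ⊓ H, h⁻¹ * n ∈ U := by
    intro n hn
    obtain ⟨h, hh, e⟩ := htr a (n a)
    exact ⟨h, hh, hUm _ (N.mul_mem (N.inv_mem hh.1) hn) (by rw [Perm.mul_apply, ← e]; simp)⟩
  have hinj : ∀ u ∈ U, ∀ j, F.π j u = 1 → u = 1 := fun u hu j hj =>
    F.ext hu.1 fun i => hD.rel i j (h1 i j) u hu.1 hu.2 hj
  have hex : ∀ i : Fin F.m, ∃ j, j ≠ i := fun i => (hD.ne i).imp fun j hj => hj.1
  rcases hsc with hP | ⟨c', hD'⟩
  · -- `H ⊓ N` is a product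
    let Y : Subgroup (Perm Ω) :=
      { carrier := {n | n ∈ N ∧ ∀ i, ∃ u ∈ U, u ∈ H ∧ F.π i n = F.π i u}
        one_mem' := ⟨N.one_mem, fun i => ⟨1, U.one_mem, H.one_mem, rfl⟩⟩
        mul_mem' := fun {x y} hx hy => ⟨N.mul_mem hx.1 hy.1, fun i => by
          obtain ⟨u, hu, hu', e⟩ := hx.2 i
          obtain ⟨v, hv, hv', e'⟩ := hy.2 i
          exact ⟨u * v, U.mul_mem hu hv, H.mul_mem hu' hv', by
            rw [F.mul i _ hx.1 _ hy.1, F.mul i _ hu.1 _ hv.1, e, e']⟩⟩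
        inv_mem' := fun {x} hx => ⟨N.inv_mem hx.1, fun i => by
          obtain ⟨u, hu, hu', e⟩ := hx.2 i
          exact ⟨u⁻¹, U.inv_mem hu, H.inv_mem hu', by rw [F.inv i hx.1, F.inv i hu.1, e]⟩⟩ }
    have hYH : Y ≤ H := fun n hn => (hP n hn.1).2 fun i => by
      obtain ⟨u, hu, hu', e⟩ := hn.2 i
      rw [e]
      exact (hP u hu.1).1 hu' i
    have hC : ∀ u ∈ U, u ∈ H → u = 1 := by
      rcases fix_or_orb hp h2 a hYH (fun g hg ha x hx => ⟨F.nor.conj g (hH hg) x hx.1, fun i => by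
        obtain ⟨i, rfl⟩ := (F.σ ⟨g, hH hg⟩).surjective i
        obtain ⟨u, hu, hu', e⟩ := hx.2 i
        refine ⟨g * u * g⁻¹, hUm _ (F.nor.conj g (hH hg) u hu.1) ?_, (Nor.refl H).conj g hg u hu', ?_⟩
        · have h3 : u a = a := hu.2.2
          rw [Perm.mul_apply, Perm.mul_apply, Perm.inv_eq_iff_eq.2 ha.symm, h3, ha]
        · exact (F.π_conj ⟨g, hH hg⟩ i hx.1).trans (e ▸ (F.π_conj ⟨g, hH hg⟩ i hu.1).symm)⟩) with h | h
      · intro u hu hu'
        refine F.ext hu.1 fun i => ?_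
        obtain ⟨j, hj⟩ := hex i
        refine hinj _ (hUm _ (F.πN i u) (h _ ⟨F.πN i u, fun l => ?_⟩)) j (F.ne j i hj _ (F.mem i u))
        by_cases hl : l = i
        · subst hl
          exact ⟨u, hu, hu', F.self l _ (F.mem l u)⟩
        · exact ⟨1, U.one_mem, H.one_mem, by rw [F.ne l i hl _ (F.mem i u), F.one]⟩
      · refine absurd (fun n hn => F.gen H n hn fun i => ?_) hNH
        obtain ⟨y, hy, e⟩ := h (F.π i n a)
        obtain ⟨j, hj⟩ := hex i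
        obtain ⟨u, hu, hu', e'⟩ := hy.2 j
        have h3 : y⁻¹ * F.π i n ∈ U :=
          hUm _ (N.mul_mem (N.inv_mem hy.1) (F.πN i n)) (by rw [Perm.mul_apply, ← e]; simp)
        have h4 := hinj _ (U.mul_mem hu h3) j (by
          rw [F.mul j _ hu.1 _ h3.1, F.mul j _ (N.inv_mem hy.1) _ (F.πN i n), F.inv j hy.1, e',
            F.ne j i hj _ (F.mem i n), mul_one, mul_inv_cancel])
        have h5 : F.π i n = y * u⁻¹ := by
          rw [← mul_assoc, mul_eq_one_iff_inv_eq] at h4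
          rw [← h4]
          group
        rw [h5]
        exact H.mul_mem (hYH hy) (H.inv_mem hu')
    let i : Fin F.m := ⟨0, F.pos⟩
    obtain ⟨j, hj⟩ := hex i
    have h3 : Nat.card ↥(N ⊓ H) = Fintype.card Ω := by
      have h4 : N ⊓ H ⊓ stabilizer (Perm Ω) a = ⊥ :=
        eq_bot_iff.2 fun u hu => mem_bot.2 (hC u (hUm u hu.1.1 hu.2) hu.1.2)
      rw [htr.card a, h4, card_bot, mul_one]
    have hR : ∀ l, ∃ R : Subgroup U, (∀ u : U, u ∈ R ↔ F.π l u ∈ H) ∧ Nat.card R ^ F.m = Fintype.card Ω := by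
      intro l
      obtain ⟨e, he⟩ := F.exists_iso hD h1 l
      refine ⟨(H.subgroupOf (F.T l)).comap e.toMonoidHom, fun u => by rw [← he]; rfl, ?_⟩
      rw [← h3, F.card_inf hsup hP l]
      congr 1
      exact Nat.card_congr ((e.toEquiv.subtypeEquiv (q := fun t : F.T l => (t : Perm Ω) ∈ H) fun u => Iff.rfl).trans
        ⟨fun x => ⟨x.1, x.1.2, x.2⟩, fun x => ⟨⟨x, x.2.1⟩, x.2.2⟩, fun _ => rfl, fun _ => rfl⟩)
    obtain ⟨R₁, hR₁, hc₁⟩ := hR i
    obtain ⟨R₂, hR₂, hc₂⟩ := hR j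
    obtain ⟨e, he⟩ := F.exists_iso hD h1 i
    have := F.simple i
    have hs : IsSimpleGroup U := e.isSimpleGroup
    have hcU : Nat.card U = Nat.card (F.T i) := Nat.card_congr e.toEquiv
    have h5 : Nat.card R₂ = Nat.card R₁ := Nat.pow_left_injective F.pos.ne' (hc₂.trans hc₁.symm)
    have h6 : R₂.index = R₁.index := by
      have h7 := R₂.card_mul_index
      rw [h5, ← R₁.card_mul_index] at h7
      exact Nat.eq_of_mul_eq_mul_left Nat.card_pos h7
    refine noPow U R₁ R₂ R₁.index F.m hm ?_ rfl h6 fun u => ?_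
    · have h7 : Nat.card U ^ F.m = Nat.card R₁ ^ F.m * R₁.index ^ F.m := by rw [← mul_pow, R₁.card_mul_index]
      rw [hc₁, hcard i, ← hcU] at h7
      conv_lhs at h7 => rw [← Nat.sub_add_cancel F.pos, pow_succ]
      exact Nat.eq_of_mul_eq_mul_left (pow_pos Nat.card_pos _) h7
    · obtain ⟨h, hh, hv⟩ := hdec _ (N.inv_mem (F.πN j u))
      refine ⟨(⟨_, hv⟩ : U)⁻¹, R₁.inv_mem ((hR₁ _).2 ?_), ⟨_, hv⟩ * u, (hR₂ _).2 ?_, by group⟩
      · show F.π i (h⁻¹ * (F.π j u)⁻¹) ∈ H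
        rw [F.mul i _ (N.inv_mem hh.1) _ (N.inv_mem (F.πN j u)), F.ne i j hj.symm _ (inv_mem (F.mem j u)), mul_one,
          F.inv i hh.1]
        exact H.inv_mem ((hP h hh.1).1 hh.2 i)
      · show F.π j (h⁻¹ * (F.π j u)⁻¹ * u) ∈ H
        rw [F.mul j _ hv.1 _ u.2.1, F.mul j _ (N.inv_mem hh.1) _ (N.inv_mem (F.πN j u)),
          F.self j _ (inv_mem (F.mem j u)), inv_mul_cancel_right, F.inv j hh.1]
        exact H.inv_mem ((hP h hh.1).1 hh.2 j)
  · by_cases hone : ∀ i j, c' i = c' j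
    · let i : Fin F.m := ⟨0, F.pos⟩
      have h3 := soc_card (F.soc_of_diag hH hD' hone hmin) hp h2 a
      obtain ⟨e, -⟩ := F.exists_iso hD' hone i
      rw [Nat.card_congr e.toEquiv, hcard i] at h3
      have h4 := F.one_lt_card i
      have h5 : Nat.card (F.T i) ^ 1 ≤ Nat.card (F.T i) ^ (F.m - 1) := Nat.pow_le_pow_right (by omega) (by omega)
      rw [pow_one] at h5
      omega
    · push Not at hone
      obtain ⟨i, j, hij⟩ := hone
      obtain ⟨i', hi, hi'⟩ := hD'.ne i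
      obtain ⟨j', hj, hj'⟩ := hD'.ne j
      have hne : i ≠ j := fun e => hij (e ▸ rfl)
      have hN : ∀ x : F.T i × F.T j, (x.1 : Perm Ω) * x.2 ∈ N := fun x => N.mul_mem (F.le i x.1.2) (F.le j x.2.2)
      choose h hh hv using fun x : F.T i × F.T j => hdec _ (hN x)
      have h3 : Function.Injective fun x => (⟨_, hv x⟩ : U) := by
        intro x y hxy
        have h4 : (h x)⁻¹ * (x.1 * x.2) = (h y)⁻¹ * (y.1 * y.2) := congrArg Subtype.val hxy
        have h5 : h x * (h y)⁻¹ = x.1 * x.2 * ((y.1 : Perm Ω) * y.2)⁻¹ := by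
          calc h x * (h y)⁻¹ = h x * ((h y)⁻¹ * (y.1 * y.2)) * ((y.1 : Perm Ω) * y.2)⁻¹ := by group
            _ = _ := by rw [← h4]; group
        have h6 : h x * (h y)⁻¹ ∈ N ⊓ H := mul_mem (hh x) (inv_mem (hh y))
        have h7 : ∀ l, F.π l (h x * (h y)⁻¹) = F.π l x.1 * F.π l x.2 * (F.π l y.1 * F.π l y.2)⁻¹ := fun l => by
          rw [h5, F.mul l _ (hN x) _ (N.inv_mem (hN y)), F.inv l (hN y), F.mul l _ (F.le i x.1.2) _ (F.le j x.2.2),
            F.mul l _ (F.le i y.1.2) _ (F.le j y.2.2)]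
        have h8 : ∀ l, l ≠ i → l ≠ j → F.π l (h x * (h y)⁻¹) = 1 := fun l h1 h2 => by
          rw [h7, F.ne l i h1 _ x.1.2, F.ne l j h2 _ x.2.2, F.ne l i h1 _ y.1.2, F.ne l j h2 _ y.2.2]
          simp
        have h9 := hD'.rel i i' hi'.symm _ h6.1 h6.2 (h8 i' hi fun e => hij (hi'.symm.trans (e ▸ rfl)))
        have h10 := hD'.rel j j' hj'.symm _ h6.1 h6.2 (h8 j' (fun e => hij ((e ▸ rfl : c' i = c' j').trans hj')) hj)
        rw [h7, F.self i _ x.1.2, F.self i _ y.1.2, F.ne i j hne _ x.2.2, F.ne i j hne _ y.2.2, mul_one, mul_one,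
          mul_inv_eq_one] at h9
        rw [h7, F.self j _ x.2.2, F.self j _ y.2.2, F.ne j i hne.symm _ x.1.2, F.ne j i hne.symm _ y.1.2, one_mul,
          one_mul, mul_inv_eq_one] at h10
        exact Prod.ext (Subtype.ext h9) (Subtype.ext h10)
      have h4 := Nat.card_le_card_of_injective _ h3
      obtain ⟨e, -⟩ := F.exists_iso hD h1 i
      rw [Nat.card_prod, Nat.card_congr e.toEquiv] at h4
      have h5 := F.one_lt_card j
      have h6 := F.one_lt_card i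
      nlinarith

end Fc

/-- a simple normal subgroup of an overgroup in which `H` is core-free has trivial centraliser -/
theorem no_hol {H M N : Subgroup (Perm Ω)} (hM : H ⋖ M) (hp : IsPreprimitive H Ω) (h2 : 2 ≤ Fintype.card Ω)
    (hcore : ∀ K, Nor M K → K ≤ H → K = ⊥) (hN : Nor M N) (hs : IsSimpleGroup N)
    (hn : ∃ a ∈ N, ∃ b ∈ N, a * b ≠ b * a) : Cen M N = ⊥ := by
  by_contra h0
  have hpM := prim_of_le hM.le hp
  obtain ⟨a⟩ : Nonempty Ω := Fintype.card_pos_iff.1 (by omega)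
  have hC := Nor.cen hN
  have hN0 : N ≠ ⊥ := (Subgroup.nontrivial_iff_ne_bot N).1 inferInstance
  have tN := tr_of_nor hpM hN hN0
  have tC := tr_of_nor hpM hC h0
  have hHC : ∀ x ∈ H, x ∈ Cen M N → x = 1 := by
    by_contra hcon
    push Not at hcon
    obtain ⟨x, hx, hxC, hx1⟩ := hcon
    have t := tr_of_nor hp (hC.inf hM.le) fun h => hx1 (mem_bot.1 (h ▸ (⟨hx, hxC⟩ : x ∈ H ⊓ Cen M N)))
    refine h0 (hcore _ hC fun y hy => ?_)
    obtain ⟨z, hz, e⟩ := t a (y a)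
    have h3 : z⁻¹ * y ∈ Cen M N := mul_mem (inv_mem hz.2) hy
    have h4 := tN.eq_one (g := z⁻¹ * y) (fun n hn => ((mem_Cen.1 h3).2 n hn).symm) (a := a)
      (by rw [Perm.mul_apply, ← e]; simp)
    rw [inv_mul_eq_one] at h4
    exact h4 ▸ hz.1
  have hsup := (le_or_mul_of_covBy hM hC.le fun g hg => hC.conj g (hM.le hg)).resolve_left fun h => h0 (hcore _ hC h)
  have hex : ∀ n : N, ∃ h ∈ H, (n : Perm Ω)⁻¹ * h ∈ Cen M N := by
    intro n
    obtain ⟨h, hh, x, hx, e⟩ := hsup n (hN.le n.2)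
    refine ⟨h, hh, ?_⟩
    rw [e, mul_inv_rev, inv_mul_cancel_right]
    exact inv_mem hx
  choose f hf hfC using hex
  have huniq : ∀ (n : N) h, h ∈ H → (n : Perm Ω)⁻¹ * h ∈ Cen M N → f n = h := by
    intro n h hh hc
    have h3 := hHC _ (H.mul_mem (H.inv_mem (hf n)) hh) (by
      have := mul_mem (inv_mem (hfC n)) hc
      simpa [mul_assoc] using this)
    exact inv_mul_eq_one.1 h3
  let θ : N →* Perm Ω := MonoidHom.mk' f fun x y => huniq _ _ (H.mul_mem (hf x) (hf y)) (by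
    have h3 : ((x * y : N) : Perm Ω)⁻¹ * (f x * f y) =
        ((y : Perm Ω)⁻¹ * ((x : Perm Ω)⁻¹ * f x) * (y : Perm Ω)⁻¹⁻¹) * ((y : Perm Ω)⁻¹ * f y) := by
      rw [Subgroup.coe_mul]
      group
    rw [h3]
    exact mul_mem (hC.conj _ (M.inv_mem (hN.le y.2)) _ (hfC x)) (hfC y))
  have hθ : Function.Injective θ := by
    rw [injective_iff_map_eq_one]
    intro n h
    have h3 := hfC n
    rw [show f n = 1 from h, mul_one] at h3
    exact Subtype.ext (eq_one_of_central hs hn n.2 fun t ht => ((mem_Cen.1 (inv_mem_iff.1 h3)).2 t ht).symm)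
  have hconj : ∀ g (hg : g ∈ H) (n : N), θ ⟨_, hN.conj g (hM.le hg) n n.2⟩ = g * θ n * g⁻¹ := fun g hg n =>
    huniq _ _ ((Nor.refl H).conj g hg _ (hf n)) (by
      have h3 : (g * n * g⁻¹)⁻¹ * (g * f n * g⁻¹) = g * ((n : Perm Ω)⁻¹ * f n) * g⁻¹ := by group
      exact h3 ▸ hC.conj g (hM.le hg) _ (hfC n))
  let e : N ≃* θ.range := MonoidHom.ofInjective hθ
  have hsoc : Soc H θ.range := by
    refine ⟨⟨?_, ?_⟩, e.symm.isSimpleGroup, fun hc => ?_, fun g hg hc => ?_⟩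
    · rintro _ ⟨n, rfl⟩
      exact hf n
    · rintro g hg _ ⟨n, rfl⟩
      exact ⟨_, hconj g hg n⟩
    · obtain ⟨x, hx, y, hy, hxy⟩ := hn
      have h3 := hc.is_comm.comm (e ⟨x, hx⟩) (e ⟨y, hy⟩)
      rw [← map_mul, ← map_mul] at h3
      exact hxy (congrArg Subtype.val (e.injective h3))
    · refine hHC g hg (mem_Cen.2 ⟨hM.le hg, fun n hn => ?_⟩)
      have h3 := hconj g hg ⟨n, hn⟩
      rw [hc _ ⟨_, rfl⟩, mul_inv_cancel_right] at h3
      have h4 : g * n * g⁻¹ = n := congrArg Subtype.val (hθ h3)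
      exact (mul_inv_eq_iff_eq_mul.1 h4).symm
  have h3 := soc_card hsoc hp h2 a
  have h4 : N ⊓ stabilizer (Perm Ω) a = ⊥ := eq_bot_iff.2 fun n hn =>
    mem_bot.2 (tC.eq_one (fun x hx => (mem_Cen.1 hx).2 n hn.1) hn.2)
  rw [← Nat.card_congr e.toEquiv, tN.card a, h4, card_bot] at h3
  omega

end Cfsg.Agent.SM.Pw
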