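import Cfsg.Agent.SM.Pw.Two
import Cfsg.Agent.H57.BG.Scott

/-!
# SM (S3570): the simple factors of a non-abelian minimal normal subgroup, inside `Perm Ω` (helper59)
-/

set_option autoImplicit false
set_option linter.unusedSectionVars false
set_option linter.unusedVariables false

namespace Cfsg.Agent.SM.Pw

open Equiv Subgroup MulAction

variable {Ω : Type} [Fintype Ω] [DecidableEq Ω]

/-- `N` is a minimal normal subgroup of `M` -/
structure MinN (M N : Subgroup (Perm Ω)) : Prop extends Nor M N where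
  ne : N ≠ ⊥
  min : ∀ K, Nor M K → K ≤ N → K = ⊥ ∨ K = N

theorem exists_minN {M C : Subgroup (Perm Ω)} (h : Nor M C) (h0 : C ≠ ⊥) : ∃ N, N ≤ C ∧ MinN M N := by
  obtain ⟨N, hN⟩ := (Set.toFinite {K : Subgroup (Perm Ω) | K ≤ C ∧ Nor M K ∧ K ≠ ⊥}).exists_minimal ⟨C, le_rfl, h, h0⟩
  refine ⟨N, hN.prop.1, hN.prop.2.1, hN.prop.2.2, fun K hK hKN => ?_⟩
  by_cases hK0 : K = ⊥
  · exact Or.inl hK0
  · exact Or.inr (le_antisymm hKN (hN.le_of_le ⟨hKN.trans hN.prop.1, hK, hK0⟩ hKN))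

/-- `K ⊓ N` is a product of full diagonal subgroups along the classes of `c` -/
structure Dg {M : Subgroup (Perm Ω)} (N : Subgroup (Perm Ω)) {m : ℕ} (T : Fin m → Subgroup (Perm Ω))
    (π : Fin m → Perm Ω → Perm Ω) (σ : M →* Perm (Fin m)) (K : Subgroup (Perm Ω)) (c : Fin m → Fin m) : Prop where
  ne : ∀ i, ∃ j, j ≠ i ∧ c j = c i
  inv : ∀ k : M, (k : Perm Ω) ∈ K → ∀ i j, c i = c j → c (σ k i) = c (σ k j)
  rel : ∀ i j, c i = c j → ∀ n ∈ N, n ∈ K → π j n = 1 → π i n = 1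
  dec : ∀ n ∈ N, n ∈ K → ∀ j, ∀ n' ∈ N, (∀ i, π i n' = if c i = c j then π i n else 1) → n' ∈ K
  full : ∀ i, ∀ t ∈ T i, ∃ n ∈ N, n ∈ K ∧ π i n = t

/-- `N` is the direct product of the non-abelian simple groups `T i`, permuted transitively by `M` -/
structure Fc (M N : Subgroup (Perm Ω)) where
  m : ℕ
  T : Fin m → Subgroup (Perm Ω)
  π : Fin m → Perm Ω → Perm Ω
  σ : M →* Perm (Fin m)
  nor : Nor M N
  pos : 0 < m
  simple : ∀ i, IsSimpleGroup (T i)
  nab : ∀ i, ∃ a ∈ T i, ∃ b ∈ T i, a * b ≠ b * a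
  inj : Function.Injective T
  le : ∀ i, T i ≤ N
  mem : ∀ i n, π i n ∈ T i
  mul : ∀ i, ∀ x ∈ N, ∀ y ∈ N, π i (x * y) = π i x * π i y
  self : ∀ i, ∀ t ∈ T i, π i t = t
  ne : ∀ i j, i ≠ j → ∀ t ∈ T j, π i t = 1
  coord : ∀ i, ∀ n ∈ N, π i n = 1 ↔ ∀ t ∈ T i, n * t = t * n
  gen : ∀ K : Subgroup (Perm Ω), ∀ n ∈ N, (∀ i, π i n ∈ K) → n ∈ K
  surj : ∀ t : Fin m → Perm Ω, (∀ i, t i ∈ T i) → ∃ n ∈ N, ∀ i, π i n = t i
  spec : ∀ (g : M) i x, x ∈ T i ↔ (g : Perm Ω) * x * (g : Perm Ω)⁻¹ ∈ T (σ g i)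
  fix : ∀ n : M, (n : Perm Ω) ∈ N → σ n = 1
  trans : ∀ i j, ∃ g : M, σ g i = j
  sc : ∀ K : Subgroup (Perm Ω), K ≤ M → (∀ g ∈ M, ∃ n ∈ N, g * n ∈ K) → ¬ N ≤ K →
    (∀ Y, Y ≤ N → K ⊓ N ≤ Y → (∀ k ∈ K, ∀ y ∈ Y, k * y * k⁻¹ ∈ Y) → Y = K ⊓ N ∨ Y = N) →
    (∀ n ∈ N, n ∈ K ↔ ∀ i, π i n ∈ K) ∨ ∃ c, Dg N T π σ K c

theorem exists_fc {M N : Subgroup (Perm Ω)} (h : MinN M N) (hna : ¬ ∀ x ∈ N, ∀ y ∈ N, x * y = y * x) :
    Nonempty (Fc M N) := by
  classical
  have hn := h.toNor.normal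
  have hmap : (N.subgroupOf M).map M.subtype = N := map_subgroupOf_eq_of_le h.le
  have hmin : ∀ K : Subgroup M, K.Normal → K ≤ N.subgroupOf M → K = ⊥ ∨ K = N.subgroupOf M := by
    intro K hK hKN
    rcases h.min _ (Nor.of_normal K) (hmap ▸ map_mono hKN) with h1 | h1
    · exact Or.inl ((map_eq_bot_iff_of_injective _ M.subtype_injective).1 h1)
    · exact Or.inr (map_injective M.subtype_injective (h1.trans hmap.symm))
  obtain ⟨m, T, e, F⟩ := H893.exists_fac (N.subgroupOf M) hmin fun hc => hna fun x hx y hy =>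
    congrArg Subtype.val (hc ⟨x, h.le hx⟩ hx ⟨y, h.le hy⟩ hy).eq
  let ι : ∀ n ∈ N, N.subgroupOf M := fun n hn => ⟨⟨n, h.le hn⟩, hn⟩
  let π : Fin m → Perm Ω → Perm Ω := fun i n => if hn : n ∈ N then ((e (ι n hn) i : M) : Perm Ω) else 1
  have hπ : ∀ i n (hn : n ∈ N), π i n = ((e (ι n hn) i : M) : Perm Ω) := fun i n hn => dif_pos hn
  have hπ' : ∀ i (n : N.subgroupOf M), π i ((n : M) : Perm Ω) = ((e n i : M) : Perm Ω) := fun i n => hπ i _ n.2
  have hone : ∀ i (t : T i), ((t : M) : Perm Ω) = 1 ↔ t = 1 := fun i t =>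
    ⟨fun h => Subtype.ext (Subtype.ext h), fun h => by rw [h]; rfl⟩
  have hsing : ∀ j (t : T j) i, π i ((t : M) : Perm Ω) = ((Pi.mulSingle (M := fun i => T i) j t i : M) : Perm Ω) := by
    intro j t i
    rw [← F.single j t, hπ', MulEquiv.apply_symm_apply]
  refine ⟨⟨m, fun i => (T i).map M.subtype, π, F.perm, h.toNor, F.pos, fun i => ?_, fun i => ?_, ?_, fun i => ?_,
    fun i n => ?_, fun i x hx y hy => ?_, ?_, ?_, fun i n hn => ?_, fun K n hn hK => ?_, fun t ht => ?_,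
    fun g i x => ?_, fun n hn => ?_, fun i j => ?_, fun K hKM hKN hNK hmax => ?_⟩⟩
  · have := F.simple i
    exact (equivMapOfInjective (T i) M.subtype M.subtype_injective).symm.isSimpleGroup
  · obtain ⟨a, b, hab⟩ := F.nonab i
    exact ⟨_, ⟨a, a.2, rfl⟩, _, ⟨b, b.2, rfl⟩, fun h => hab (Subtype.ext (Subtype.ext h))⟩
  · exact fun i j hij => F.inj (map_injective M.subtype_injective hij)
  · exact hmap ▸ map_mono (F.le i)
  · by_cases hn : n ∈ N
    · rw [hπ i n hn]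
      exact ⟨_, (e (ι n hn) i).2, rfl⟩
    · simp only [π, dif_neg hn]
      exact one_mem _
  · rw [hπ i _ (N.mul_mem hx hy), hπ i x hx, hπ i y hy]
    have : ι (x * y) (N.mul_mem hx hy) = ι x hx * ι y hy := rfl
    rw [this, map_mul]
    rfl
  · rintro i _ ⟨t, ht, rfl⟩
    have := hsing i ⟨t, ht⟩ i
    rwa [Pi.mulSingle_eq_same] at this
  · rintro i j hij _ ⟨t, ht, rfl⟩
    have := hsing j ⟨t, ht⟩ i
    rwa [Pi.mulSingle_eq_of_ne hij] at this
  · rw [hπ i n hn, hone, F.coord]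
    constructor
    · rintro h1 _ ⟨t, ht, rfl⟩
      exact congrArg Subtype.val (h1 t ht).eq
    · intro h1 t ht
      exact Subtype.ext (h1 t ⟨t, ht, rfl⟩)
  · let E : Subgroup (∀ i, T i) := K.comap (M.subtype.comp ((N.subgroupOf M).subtype.comp e.symm.toMonoidHom))
    have h1 : e (ι n hn) ∈ E := by
      apply Subgroup.pi_mem_of_mulSingle_mem
      intro i
      show (((e.symm (Pi.mulSingle i (e (ι n hn) i)) : N.subgroupOf M) : M) : Perm Ω) ∈ K
      rw [F.single, ← hπ]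
      exact hK i
    have h2 : (((e.symm (e (ι n hn)) : N.subgroupOf M) : M) : Perm Ω) ∈ K := h1
    rwa [MulEquiv.symm_apply_apply] at h2
  · choose s hs hst using ht
    refine ⟨_, (e.symm fun i => ⟨s i, hs i⟩).2, fun i => ?_⟩
    refine (hπ' i _).trans ?_
    rw [MulEquiv.apply_symm_apply]
    exact hst i
  · constructor
    · rintro ⟨t, ht, rfl⟩
      exact ⟨g * t * g⁻¹, (H893.Fac.conj_normalizer g i _ (F.perm_spec g i) t).1 ht, rfl⟩
    · rintro ⟨t, ht, hx⟩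
      have hxM : x ∈ M := by
        have h1 : x = (g : Perm Ω)⁻¹ * t * g := by
          have h2 : (t : Perm Ω) = g * x * (g : Perm Ω)⁻¹ := hx
          rw [h2]; group
        rw [h1]
        exact M.mul_mem (M.mul_mem (M.inv_mem g.2) t.2) g.2
      refine ⟨⟨x, hxM⟩, (H893.Fac.conj_normalizer g i _ (F.perm_spec g i) _).2 ?_, rfl⟩
      have h3 : g * ⟨x, hxM⟩ * g⁻¹ = t := Subtype.ext hx.symm
      rw [h3]
      exact ht
  · exact F.le_ker_perm hn
  · obtain ⟨g, hg⟩ := F.trans i j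
    exact ⟨g, F.inj ((F.perm_spec g i).trans hg.symm)⟩
  · have hsc := H57.BG.scott' F (K.subgroupOf M) (fun g => by
      obtain ⟨n, hn, hg⟩ := hKN g g.2
      exact ⟨⟨n, h.le hn⟩, hn, hg⟩) (fun hle => hNK fun n hn => hle (ι n hn).2) (by
      intro Y hY h1 h2
      have h3 : (K.subgroupOf M ⊓ N.subgroupOf M).map M.subtype = K ⊓ N := by
        rw [map_inf _ _ _ M.subtype_injective, hmap, map_subgroupOf_eq_of_le hKM]
      rcases hmax (Y.map M.subtype) (hmap ▸ map_mono hY) (h3 ▸ map_mono h1) (by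
        rintro k hk _ ⟨y, hy, rfl⟩
        exact ⟨_, (mem_normalizer_iff.1 (h2 (show (⟨k, hKM hk⟩ : M) ∈ K.subgroupOf M from hk)) y).1 hy, rfl⟩)
        with h4 | h4
      · exact Or.inl (map_injective M.subtype_injective (h4.trans h3.symm))
      · exact Or.inr (map_injective M.subtype_injective (h4.trans hmap.symm)))
    rcases hsc with hP | ⟨c, φ, hD⟩
    · left
      intro n hn
      refine (hP (ι n hn)).trans (forall_congr' fun i => ?_)
      rw [hπ i n hn]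
      rfl
    · right
      refine ⟨c, hD.ne, fun k hk => hD.inv k hk, fun i j hij n hn hK hj => ?_, fun n hn hK j n' hn' hc => ?_,
        ?_⟩
      · rw [hπ _ n hn, hone] at hj ⊢
        exact (hD.rel i j).1 hij (ι n hn) hK hj
      · have h1 := (hD.mem (ι n hn)).1 hK
        have h2 : ∀ i, e (ι n' hn') i = if c i = c j then e (ι n hn) i else 1 := by
          intro i
          have h3 := hc i
          rw [hπ i n' hn', hπ i n hn] at h3
          apply Subtype.ext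
          apply Subtype.ext
          rw [h3]
          split_ifs <;> rfl
        refine (hD.mem (ι n' hn')).2 fun i => ?_
        rw [h2, h2, hD.idem i]
        by_cases hij : c i = c j
        · rw [if_pos hij, if_pos hij]
          exact h1 i
        · rw [if_neg hij, if_neg hij, map_one]
      · rintro i _ ⟨t, ht, rfl⟩
        obtain ⟨n, hn, hnt⟩ := hD.full i ⟨t, ht⟩
        refine ⟨_, n.2, hn, ?_⟩
        refine (hπ' i n).trans ?_
        rw [hnt]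
        rfl

namespace Fc

variable {M N : Subgroup (Perm Ω)} (F : Fc M N)

theorem ext {n : Perm Ω} (hn : n ∈ N) (h : ∀ i, F.π i n = 1) : n = 1 :=
  mem_bot.1 (F.gen ⊥ n hn fun i => mem_bot.2 (h i))

theorem one (i : Fin F.m) : F.π i 1 = 1 := F.self i 1 (one_mem _)

theorem inv (i : Fin F.m) {n : Perm Ω} (hn : n ∈ N) : F.π i n⁻¹ = (F.π i n)⁻¹ := by
  rw [eq_inv_iff_mul_eq_one, ← F.mul i _ (N.inv_mem hn) _ hn, inv_mul_cancel, F.one]

theorem ext' {x y : Perm Ω} (hx : x ∈ N) (hy : y ∈ N) (h : ∀ i, F.π i x = F.π i y) : x = y := by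
  rw [← mul_inv_eq_one]
  refine F.ext (N.mul_mem hx (N.inv_mem hy)) fun i => ?_
  rw [F.mul i _ hx _ (N.inv_mem hy), F.inv i hy, h, mul_inv_cancel]

theorem πN (i : Fin F.m) (n : Perm Ω) : F.π i n ∈ N := F.le i (F.mem i n)

theorem comm {i j : Fin F.m} (h : i ≠ j) {s t : Perm Ω} (hs : s ∈ F.T i) (ht : t ∈ F.T j) : s * t = t * s :=
  ((F.coord i t (F.le j ht)).1 (F.ne i j h t ht) s hs).symm

theorem T_ne_bot (i : Fin F.m) : ∃ t ∈ F.T i, t ≠ 1 := by
  obtain ⟨a, ha, b, hb, hab⟩ := F.nab i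
  exact ⟨a, ha, fun h => hab (by simp [h])⟩

theorem conj_mem {n : Perm Ω} (hn : n ∈ N) (i : Fin F.m) {t : Perm Ω} (ht : t ∈ F.T i) : n * t * n⁻¹ ∈ F.T i := by
  have := (F.spec ⟨n, F.nor.le hn⟩ i t).1 ht
  rwa [F.fix _ hn] at this

/-- coordinates and conjugation -/
theorem π_conj (g : M) (i : Fin F.m) {n : Perm Ω} (hn : n ∈ N) :
    F.π (F.σ g i) (g * n * (g : Perm Ω)⁻¹) = g * F.π i n * (g : Perm Ω)⁻¹ := by
  have h1 : (F.π i n)⁻¹ * n ∈ N := N.mul_mem (N.inv_mem (F.πN i n)) hn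
  have h2 : F.π i ((F.π i n)⁻¹ * n) = 1 := by
    rw [F.mul i _ (N.inv_mem (F.πN i n)) _ hn, F.self i _ (inv_mem (F.mem i n)), inv_mul_cancel]
  have h3 : F.π (F.σ g i) (g * ((F.π i n)⁻¹ * n) * (g : Perm Ω)⁻¹) = 1 := by
    rw [F.coord _ _ (F.nor.conj g g.2 _ h1)]
    intro t ht
    have h4 : (g : Perm Ω)⁻¹ * t * g ∈ F.T i := (F.spec g i _).2 (by simpa [mul_assoc] using ht)
    have h5 := (F.coord i _ h1).1 h2 _ h4
    calc g * ((F.π i n)⁻¹ * n) * (g : Perm Ω)⁻¹ * t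
        = g * (((F.π i n)⁻¹ * n) * ((g : Perm Ω)⁻¹ * t * g)) * (g : Perm Ω)⁻¹ := by group
      _ = t * (g * ((F.π i n)⁻¹ * n) * (g : Perm Ω)⁻¹) := by rw [h5]; group
  have h6 : g * n * (g : Perm Ω)⁻¹ =
      (g * F.π i n * (g : Perm Ω)⁻¹) * (g * ((F.π i n)⁻¹ * n) * (g : Perm Ω)⁻¹) := by group
  rw [h6, F.mul _ _ (F.nor.conj g g.2 _ (F.πN i n)) _ (F.nor.conj g g.2 _ h1), h3, mul_one,
    F.self _ _ ((F.spec g i _).1 (F.mem i n))]

/-- an element of `N` acts on `T i` like its coordinate -/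
theorem conj_eq {n : Perm Ω} (hn : n ∈ N) (i : Fin F.m) {t : Perm Ω} (ht : t ∈ F.T i) :
    n * t * n⁻¹ = F.π i n * t * (F.π i n)⁻¹ := by
  rw [← F.self i _ (F.conj_mem hn i ht), F.mul i _ (N.mul_mem hn (F.le i ht)) _ (N.inv_mem hn),
    F.mul i _ hn _ (F.le i ht), F.inv i hn, F.self i t ht]

/-- the permutation of the factors is determined by conjugation -/
theorem σ_eq (g : M) {i j : Fin F.m} (h : ∀ t ∈ F.T i, (g : Perm Ω) * t * (g : Perm Ω)⁻¹ ∈ F.T j) : F.σ g i = j := by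
  by_contra hne
  obtain ⟨t, ht, h1⟩ := F.T_ne_bot i
  have h2 := F.ne _ _ hne _ (h t ht)
  rw [F.self _ _ ((F.spec g i t).1 ht)] at h2
  apply h1
  have h3 : t = (g : Perm Ω)⁻¹ * (g * t * (g : Perm Ω)⁻¹) * g := by group
  rw [h3, h2]
  group

theorem mem_T {n : Perm Ω} (hn : n ∈ N) {i : Fin F.m} (h : ∀ j, j ≠ i → F.π j n = 1) : n ∈ F.T i :=
  F.gen _ n hn fun j => by
    by_cases hj : j = i
    · subst hj
      exact F.mem j n
    · rw [h j hj]
      exact one_mem _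

/-- the order of a product of subgroups of the factors -/
theorem card_prod {K : Subgroup (Perm Ω)} (hK : K ≤ N) (R : Fin F.m → Subgroup (Perm Ω)) (hR : ∀ i, R i ≤ F.T i)
    (h : ∀ n ∈ N, n ∈ K ↔ ∀ i, F.π i n ∈ R i) : Nat.card K = ∏ i, Nat.card (R i) := by
  rw [← Nat.card_pi]
  refine Nat.card_congr (Equiv.ofBijective (fun n i => ⟨F.π i n, (h n (hK n.2)).1 n.2 i⟩) ⟨?_, ?_⟩)
  · intro x y hxy
    exact Subtype.ext (F.ext' (hK x.2) (hK y.2) fun i => congrArg Subtype.val (congrFun hxy i))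
  · intro t
    obtain ⟨n, hn, ht⟩ := F.surj (fun i => t i) fun i => hR i (t i).2
    exact ⟨⟨n, (h n hn).2 fun i => ht i ▸ (t i).2⟩, funext fun i => Subtype.ext (ht i)⟩

/-- conjugate subgroups have the same order -/
theorem card_eq_of_conj {A B : Subgroup (Perm Ω)} (g : Perm Ω) (h : ∀ x, x ∈ A ↔ g * x * g⁻¹ ∈ B) :
    Nat.card A = Nat.card B :=
  Nat.card_congr ((MulAut.conj g).toEquiv.subtypeEquiv h)

theorem card_T (i j : Fin F.m) : Nat.card (F.T i) = Nat.card (F.T j) := by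
  obtain ⟨g, rfl⟩ := F.trans i j
  exact card_eq_of_conj g (F.spec g i)

theorem card_N (i : Fin F.m) : Nat.card N = Nat.card (F.T i) ^ F.m := by
  rw [F.card_prod le_rfl F.T (fun _ => le_rfl) fun n hn => ⟨fun _ i => F.mem i n, fun _ => hn⟩,
    Finset.prod_congr rfl fun j _ => F.card_T j i]
  simp

end Fc

end Cfsg.Agent.SM.Pw
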