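import Cfsg.Agent.SM.Pw.Cart
import Cfsg.Agent.SM.Fac

/-!
# SM (S3570): the position of the minimal normal subgroups of `H` in a maximal overgroup (helper59)
-/

set_option autoImplicit false
set_option linter.unusedSectionVars false
set_option linter.unusedVariables false

namespace Cfsg.Agent.SM.Pw

open Equiv Subgroup MulAction
open scoped commutatorElement

variable {Ω : Type} [Fintype Ω] [DecidableEq Ω]

/-- perfect subgroups -/
def Perf (D : Subgroup (Perm Ω)) : Prop :=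
  ∀ K : Subgroup (Perm Ω), (∀ s ∈ D, ∀ t ∈ D, s * t * s⁻¹ * t⁻¹ ∈ K) → D ≤ K

theorem Fc.perf {M N : Subgroup (Perm Ω)} (F : Fc M N) : Perf N := fun K h n hn => F.gen K n hn fun i =>
  le_of_comm_mem (F.simple i) (F.nab i) (fun s hs t ht => h s (F.le i hs) t (F.le i ht)) (F.mem i n)

theorem Perf.hom_eq_one {D : Subgroup (Perm Ω)} (h : Perf D) {Q : Type*} [Group Q] [hQ : Group.IsSolvable Q]
    (φ : D →* Q) (d : D) : φ d = 1 := by
  obtain ⟨k, hk⟩ := hQ.solvable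
  have key : ∀ k, ∀ d : D, φ d ∈ derivedSeries Q k := by
    intro k
    induction k with
    | zero => exact fun d => mem_top _
    | succ k ih =>
      intro d
      obtain ⟨x, hx, e⟩ := h (((derivedSeries Q (k + 1)).comap φ).map D.subtype) (fun s hs t ht =>
        ⟨⁅(⟨s, hs⟩ : D), (⟨t, ht⟩ : D)⁆, by
          rw [SetLike.mem_coe, mem_comap, map_commutatorElement]
          exact commutator_mem_commutator (ih _) (ih _), rfl⟩) d.2
      have : x = d := Subtype.ext e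
      exact this ▸ hx
  have := key k d
  rwa [hk, mem_bot] at this

theorem Tr.card {K : Subgroup (Perm Ω)} (h : Tr K) (a : Ω) :
    Nat.card K = Fintype.card Ω * Nat.card ↥(K ⊓ stabilizer (Perm Ω) a) := by
  have : IsPretransitive K Ω := ⟨fun x y => by
    obtain ⟨g, hg, e⟩ := h x y
    exact ⟨⟨g, hg⟩, e⟩⟩
  rw [← (stabilizer K a).card_mul_index, index_stabilizer_of_transitive, Nat.card_eq_fintype_card (α := Ω), mul_comm]
  congr 1
  exact Nat.card_congr ⟨fun x => ⟨x.1.1, x.1.2, x.2⟩, fun x => ⟨⟨x.1, x.2.1⟩, x.2.2⟩, fun _ => rfl, fun _ => rfl⟩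

theorem pow_dvd_factorial {p k m : ℕ} (hp : p.Prime) (hm : m ≠ 0) (h : p ^ k ∣ m.factorial) : (p - 1) * k < m := by
  have := Fact.mk hp
  exact lt_of_le_of_lt (Nat.mul_le_mul_left _ ((padicValNat_dvd_iff_le m.factorial_ne_zero).1 h))
    (sub_one_mul_padicValNat_factorial_lt_of_ne_zero p hm)

theorem exists_odd_prime {T : Subgroup (Perm Ω)} (hs : IsSimpleGroup T) (hn : ∃ a ∈ T, ∃ b ∈ T, a * b ≠ b * a) :
    ∃ p : ℕ, p.Prime ∧ p ≠ 2 ∧ p ∣ Nat.card T := by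
  by_contra hcon
  push Not at hcon
  have h1 := Nat.eq_prime_pow_of_unique_prime_dvd (n := Nat.card T) (p := 2) Nat.card_pos.ne' fun {d} hd hdv => by
    by_contra h2
    exact hcon d hd h2 hdv
  have := Fact.mk Nat.prime_two
  have h2 := (IsPGroup.of_card h1).center_nontrivial
  obtain ⟨x, hx⟩ := exists_ne (1 : center T)
  apply hx
  exact Subtype.ext (Subtype.ext (eq_one_of_central hs hn x.1.2 fun t ht =>
    (congrArg Subtype.val (mem_center_iff.1 x.2 ⟨t, ht⟩)).symm))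

/-- the centraliser in `M` -/
def Cen (M N : Subgroup (Perm Ω)) : Subgroup (Perm Ω) := M ⊓ centralizer (N : Set (Perm Ω))

theorem mem_Cen {M N : Subgroup (Perm Ω)} {g : Perm Ω} : g ∈ Cen M N ↔ g ∈ M ∧ ∀ n ∈ N, n * g = g * n := Iff.rfl

theorem Nor.cen {M N : Subgroup (Perm Ω)} (h : Nor M N) : Nor M (Cen M N) := by
  refine ⟨inf_le_left, fun g hg x hx => mem_Cen.2 ⟨(Nor.refl M).conj g hg x hx.1, fun n hn => ?_⟩⟩
  have h1 := (mem_Cen.1 hx).2 _ (h.conj g⁻¹ (M.inv_mem hg) n hn)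
  calc n * (g * x * g⁻¹) = g * (g⁻¹ * n * g⁻¹⁻¹ * x) * g⁻¹ := by group
    _ = g * x * g⁻¹ * n := by rw [h1]; group

/-- a normal subgroup with a non-trivial point stabiliser has trivial centraliser -/
theorem cen_eq_bot {M N : Subgroup (Perm Ω)} (hp : IsPreprimitive M Ω) (h : Nor M N) {n : Perm Ω} (hn : n ∈ N)
    (h1 : n ≠ 1) {a : Ω} (ha : n a = a) : Cen M N = ⊥ := by
  by_contra h0
  exact h1 ((tr_of_nor hp (Nor.cen h) h0).eq_one (fun x hx => (mem_Cen.1 hx).2 n hn) ha)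

/-- an invariant subgroup fixes the point or is transitive -/
theorem fix_or_orb {H Y : Subgroup (Perm Ω)} (hp : IsPreprimitive H Ω) (h2 : 2 ≤ Fintype.card Ω) (a : Ω) (hY : Y ≤ H)
    (hc : ∀ g ∈ H, g a = a → ∀ x ∈ Y, g * x * g⁻¹ ∈ Y) : (∀ y ∈ Y, y a = a) ∨ ∀ u, Orb Y a u := by
  rcases le_or_mul_of_covBy (stab_covBy hp h2 a) hY (fun g hg => hc g hg.1 hg.2) with h | h
  · exact Or.inl fun y hy => (h hy).2
  · right
    intro u
    obtain ⟨g, hg⟩ := exists_smul_eq H u a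
    obtain ⟨k, hk, y, hy, e⟩ := h g g.2
    have h3 : (g : Perm Ω) u = a := hg
    rw [e, Perm.mul_apply, ← Perm.eq_inv_iff_eq] at h3
    have h4 : k⁻¹ a = a := Perm.inv_eq_iff_eq.2 (Eq.symm hk.2)
    exact Orb.symm ⟨y, hy, h3.trans h4⟩

namespace Fc

variable {M N : Subgroup (Perm Ω)} (F : Fc M N)

/-- **Schreier**: a perfect group that normalises all the factors lies in `N` -/
theorem perf_le (hC : Cen M N = ⊥) {D : Subgroup (Perm Ω)} (hD : D ≤ M) (hp : Perf D)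
    (hσ : ∀ d : M, (d : Perm Ω) ∈ D → F.σ d = 1) : D ≤ N := by
  intro d hd
  have h1 : ∀ i, D ≤ normalizer (F.T i : Set (Perm Ω)) := fun i x hx => by
    rw [mem_normalizer_iff]
    intro t
    have := F.spec ⟨x, hD hx⟩ i t
    rwa [hσ _ hx] at this
  have h2 : ∀ i, ∃ s ∈ F.T i, ∀ t ∈ F.T i, s * t * s⁻¹ = d * t * d⁻¹ := by
    intro i
    have := F.simple i
    have := S5758.result (G := F.T i)
    have h3 := hp.hom_eq_one ((QuotientGroup.mk' (Inn (F.T i))).comp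
      ((normalizerMonoidHom (F.T i)).comp (inclusion (h1 i)))) ⟨d, hd⟩
    obtain ⟨s, hs⟩ := (QuotientGroup.eq_one_iff _).1 h3
    exact ⟨s, s.2, fun t ht => congrArg (fun φ : MulAut (F.T i) => (φ ⟨t, ht⟩ : Perm Ω)) hs⟩
  choose s hs hst using h2
  obtain ⟨n, hn, hns⟩ := F.surj s hs
  have h4 : n⁻¹ * d ∈ Cen M N := by
    refine mem_Cen.2 ⟨M.mul_mem (M.inv_mem (F.nor.le hn)) (hD hd), fun x hx => ?_⟩
    have h5 : x ∈ centralizer ({n⁻¹ * d} : Set (Perm Ω)) := F.gen _ x hx fun i => by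
      rw [mem_centralizer_singleton_iff]
      have h6 := F.conj_eq hn i (F.mem i x)
      rw [hns, hst i _ (F.mem i x)] at h6
      calc F.π i x * (n⁻¹ * d) = n⁻¹ * (n * F.π i x * n⁻¹) * d := by group
        _ = n⁻¹ * d * F.π i x := by rw [h6]; group
    exact mem_centralizer_singleton_iff.1 h5
  rw [hC, mem_bot, inv_mul_eq_one] at h4
  exact h4 ▸ hn

/-- a minimal normal subgroup of `H` lies in `N` or acts faithfully on the factors -/
theorem le_or_dvd (hC : Cen M N = ⊥) {H D : Subgroup (Perm Ω)} (hH : H ≤ M) (hD : MinN H D) (hp : Perf D)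
    (ht : Tr D) (a : Ω) : D ≤ N ∨ Fintype.card Ω ∣ F.m.factorial := by
  have hDM : D ≤ M := hD.le.trans hH
  have hn : Nor H (D ⊓ F.σ.ker.map M.subtype) :=
    ⟨inf_le_left.trans hD.le, fun g hg x hx =>
      ⟨hD.conj g hg x hx.1, (Nor.of_normal F.σ.ker).conj g (hH hg) x hx.2⟩⟩
  rcases hD.min _ hn inf_le_left with h | h
  · right
    have h1 : Function.Injective (F.σ.comp (inclusion hDM)) := by
      rw [injective_iff_map_eq_one]
      intro d hd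
      have h2 : (d : Perm Ω) ∈ D ⊓ F.σ.ker.map M.subtype := ⟨d.2, inclusion hDM d, hd, rfl⟩
      rw [h, mem_bot] at h2
      exact Subtype.ext h2
    have h3 := card_dvd_of_injective _ h1
    rw [Nat.card_perm, Nat.card_fin, ht.card a] at h3
    exact (Dvd.intro _ rfl).trans h3
  · left
    refine F.perf_le hC hDM hp fun d hd => ?_
    obtain ⟨x, hx, e⟩ := (inf_eq_left.1 h) hd
    have : x = d := Subtype.ext e
    exact this ▸ hx

/-- a supplement of `N` permutes the factors transitively -/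
theorem trans_of_sup {K : Subgroup (Perm Ω)} (h : ∀ g ∈ M, ∃ n ∈ N, g * n ∈ K) (i j : Fin F.m) :
    ∃ g : M, (g : Perm Ω) ∈ K ∧ F.σ g i = j := by
  obtain ⟨g, rfl⟩ := F.trans i j
  obtain ⟨n, hn, hg⟩ := h g g.2
  refine ⟨g * ⟨n, F.nor.le hn⟩, hg, ?_⟩
  rw [map_mul, F.fix ⟨n, F.nor.le hn⟩ hn, mul_one]

theorem sup_stab (ht : Tr N) (a : Ω) : ∀ g ∈ M, ∃ n ∈ N, g * n ∈ stabilizer (Perm Ω) a := by
  intro g hg
  obtain ⟨n, hn, e⟩ := ht a (g⁻¹ a)
  refine ⟨n, hn, ?_⟩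
  show g (n a) = a
  rw [e]
  simp

/-- the order of `K ⊓ N` in the product case -/
theorem card_inf {K : Subgroup (Perm Ω)} (h : ∀ g ∈ M, ∃ n ∈ N, g * n ∈ K)
    (hP : ∀ n ∈ N, n ∈ K ↔ ∀ i, F.π i n ∈ K) (i : Fin F.m) :
    Nat.card ↥(N ⊓ K) = Nat.card ↥(F.T i ⊓ K) ^ F.m := by
  rw [F.card_prod inf_le_left (fun i => F.T i ⊓ K) (fun _ => inf_le_left) fun n hn =>
    ⟨fun h1 i => ⟨F.mem i n, (hP n hn).1 h1.2 i⟩, fun h1 => ⟨hn, (hP n hn).2 fun i => (h1 i).2⟩⟩]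
  have h2 : ∀ j, Nat.card ↥(F.T j ⊓ K) = Nat.card ↥(F.T i ⊓ K) := by
    intro j
    obtain ⟨g, hg, rfl⟩ := F.trans_of_sup h j i
    refine card_eq_of_conj g fun x => and_congr (F.spec g j x) ⟨fun hx => ?_, fun hx => ?_⟩
    · exact K.mul_mem (K.mul_mem hg hx) (K.inv_mem hg)
    · have := K.mul_mem (K.mul_mem (K.inv_mem hg) hx) hg
      simpa [mul_assoc] using this
  rw [Finset.prod_congr rfl fun j _ => h2 j]
  simp

/-- product type: the degree does not divide `m!` -/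
theorem not_dvd_of_prod (h2 : 2 ≤ Fintype.card Ω) (ht : Tr N) {a : Ω}
    (hP : ∀ n ∈ N, n a = a → ∀ i, F.π i n a = a) : ¬ Fintype.card Ω ∣ F.m.factorial := by
  intro hd
  let i : Fin F.m := ⟨0, F.pos⟩
  have h1 := F.card_inf (sup_stab ht a) (fun n hn => ⟨hP n hn, F.gen _ n hn⟩) i
  have h3 := ht.card a
  obtain ⟨r, hr⟩ := card_dvd_of_le (inf_le_left : F.T i ⊓ stabilizer (Perm Ω) a ≤ F.T i)
  rw [F.card_N i, h1, hr, mul_pow, mul_comm] at h3
  have h4 := Nat.eq_of_mul_eq_mul_right (pow_pos Nat.card_pos _) h3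
  have hr1 : r ≠ 1 := by
    rintro rfl
    rw [one_pow] at h4
    omega
  obtain ⟨p, hp, hpr⟩ := Nat.exists_prime_and_dvd hr1
  have h5 := pow_dvd_factorial hp F.pos.ne' ((pow_dvd_pow_of_dvd hpr _).trans (h4 ▸ hd))
  have h6 : 1 * F.m ≤ (p - 1) * F.m := Nat.mul_le_mul_right _ (by have := hp.two_le; omega)
  omega

/-- a full diagonal subgroup is isomorphic to each factor -/
theorem exists_iso {K : Subgroup (Perm Ω)} {c : Fin F.m → Fin F.m} (hD : Dg N F.T F.π F.σ K c)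
    (h1 : ∀ i j, c i = c j) (i : Fin F.m) : ∃ e : ↥(N ⊓ K) ≃* F.T i, ∀ u, (e u : Perm Ω) = F.π i u := by
  let f : ↥(N ⊓ K) →* F.T i := MonoidHom.mk' (fun u => ⟨F.π i u, F.mem i u⟩) fun x y =>
    Subtype.ext (F.mul i _ x.2.1 _ y.2.1)
  refine ⟨MulEquiv.ofBijective f ⟨?_, ?_⟩, fun u => rfl⟩
  · rw [injective_iff_map_eq_one]
    intro u hu
    exact Subtype.ext (F.ext u.2.1 fun j => hD.rel j i (h1 j i) u u.2.1 u.2.2 (congrArg Subtype.val hu))
  · intro t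
    obtain ⟨n, hn, hK, e⟩ := hD.full i t t.2
    exact ⟨⟨n, hn, hK⟩, Subtype.ext e⟩

theorem two_le {K : Subgroup (Perm Ω)} {c : Fin F.m → Fin F.m} (hD : Dg N F.T F.π F.σ K c) : 2 ≤ F.m := by
  obtain ⟨j, hj, -⟩ := hD.ne ⟨0, F.pos⟩
  have h1 : (j : ℕ) ≠ 0 := fun h2 => hj (Fin.ext h2)
  have := j.2
  omega

/-- diagonal type: the degree -/
theorem card_of_diag (ht : Tr N) {a : Ω} {K : Subgroup (Perm Ω)} (hK : N ⊓ K = N ⊓ stabilizer (Perm Ω) a)
    {c : Fin F.m → Fin F.m} (hD : Dg N F.T F.π F.σ K c) (h1 : ∀ i j, c i = c j) (i : Fin F.m) :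
    Fintype.card Ω = Nat.card (F.T i) ^ (F.m - 1) := by
  obtain ⟨e, -⟩ := F.exists_iso hD h1 i
  have h3 := ht.card a
  rw [← hK, Nat.card_congr e.toEquiv, F.card_N i, ← Nat.sub_add_cancel F.pos, pow_succ] at h3
  exact (Nat.eq_of_mul_eq_mul_right Nat.card_pos h3).symm

theorem not_dvd_of_diag (hm : 2 ≤ F.m) {i : Fin F.m} (h : Fintype.card Ω = Nat.card (F.T i) ^ (F.m - 1)) :
    ¬ Fintype.card Ω ∣ F.m.factorial := by
  intro hd
  obtain ⟨p, hp, hp2, hpr⟩ := exists_odd_prime (F.simple i) (F.nab i)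
  have h5 := pow_dvd_factorial hp F.pos.ne' ((pow_dvd_pow_of_dvd hpr _).trans (h ▸ hd))
  have h6 : 2 * (F.m - 1) ≤ (p - 1) * (F.m - 1) := Nat.mul_le_mul_right _ (by have := hp.two_le; omega)
  omega

/-- a full diagonal `H ⊓ N` is the socle of `H` -/
theorem soc_of_diag {H : Subgroup (Perm Ω)} (hH : H ≤ M) {c : Fin F.m → Fin F.m} (hD : Dg N F.T F.π F.σ H c)
    (h1 : ∀ i j, c i = c j) (hmin : ∀ D, MinN H D → D ≤ N) : Soc H (N ⊓ H) := by
  let i : Fin F.m := ⟨0, F.pos⟩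
  obtain ⟨e, he⟩ := F.exists_iso hD h1 i
  have := F.simple i
  have hs : IsSimpleGroup ↥(N ⊓ H) := e.isSimpleGroup
  have hn : ∃ a ∈ N ⊓ H, ∃ b ∈ N ⊓ H, a * b ≠ b * a := by
    obtain ⟨a, ha, b, hb, hab⟩ := F.nab i
    refine ⟨_, (e.symm ⟨a, ha⟩).2, _, (e.symm ⟨b, hb⟩).2, fun h => hab ?_⟩
    have h2 : e.symm ⟨a, ha⟩ * e.symm ⟨b, hb⟩ = e.symm ⟨b, hb⟩ * e.symm ⟨a, ha⟩ := Subtype.ext h
    rw [← map_mul, ← map_mul] at h2
    exact congrArg Subtype.val (e.symm.injective h2)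
  have hnor : Nor H (N ⊓ H) := inf_comm H N ▸ F.nor.inf hH
  refine ⟨hnor, hs, fun hc => ?_, fun g hg hc => ?_⟩
  · obtain ⟨a, ha, b, hb, hab⟩ := hn
    exact hab (congrArg Subtype.val (hc.is_comm.comm (⟨a, ha⟩ : ↥(N ⊓ H)) ⟨b, hb⟩))
  · by_contra hg1
    have h0 : Cen H (N ⊓ H) ≠ ⊥ := fun h => hg1 (mem_bot.1 (h ▸ mem_Cen.2 ⟨hg, fun n hn => (hc n hn).symm⟩))
    obtain ⟨D, hDC, hDm⟩ := exists_minN (Nor.cen hnor) h0
    apply hDm.ne
    rw [eq_bot_iff]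
    intro x hx
    exact mem_bot.2 (eq_one_of_central hs hn ⟨hmin D hDm hx, hDm.le hx⟩ fun t ht => ((mem_Cen.1 (hDC hx)).2 t ht).symm)

end Fc

end Cfsg.Agent.SM.Pw
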