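import Cfsg.Agent.SM.Pw.Diag

/-!
# SM (S3570): the structure of a maximal overgroup in which `H` is core-free (helper59)
-/

set_option autoImplicit false
set_option linter.unusedSectionVars false
set_option linter.unusedVariables false

namespace Cfsg.Agent.SM.Pw

open Equiv Subgroup MulAction

variable {Ω : Type} [Fintype Ω] [DecidableEq Ω]

/-- a minimal normal subgroup of a group without abelian normal subgroups -/
theorem MinN.fc {H D : Subgroup (Perm Ω)} (hD : MinN H D) (hna : ∀ V, ¬ Aff H V) : Nonempty (Fc H D) :=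
  exists_fc hD fun hc => hna D ⟨hD.toNor, hD.ne, hc⟩

theorem Two.exists_fix {A B : Subgroup (Perm Ω)} {a : Ω} (t : Two A B a) (h5 : 5 ≤ Nat.card (Gam A a)) :
    ∃ x ∈ t.alt, x ≠ 1 ∧ x a = a := by
  classical
  let γ : Gam A a := ⟨a, Orb.refl A a⟩
  have h1 : 2 < (Finset.univ.erase γ).card := by
    rw [Finset.card_erase_of_mem (Finset.mem_univ _), Finset.card_univ, ← Nat.card_eq_fintype_card]
    omega
  obtain ⟨x, hx, y, hy, z, hz, hxy, hxz, hyz⟩ := Finset.two_lt_card.1 h1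
  have hx' := (Finset.ne_of_mem_erase hx).symm
  have hy' := (Finset.ne_of_mem_erase hy).symm
  have hz' := (Finset.ne_of_mem_erase hz).symm
  refine ⟨t.loc (swap x y * swap x z), ⟨_, ?_, rfl⟩, fun h => ?_, ?_⟩
  · rw [SetLike.mem_coe, Perm.mem_alternatingGroup, Perm.sign_mul, Perm.sign_swap hxy, Perm.sign_swap hxz]
    rfl
  · have h2 := t.loc_inj (h.trans (map_one t.loc).symm)
    have h3 : (swap x y * swap x z) x = x := by rw [h2]; rfl
    rw [Perm.mul_apply, swap_apply_left, swap_apply_of_ne_of_ne hxz.symm hyz.symm] at h3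
    exact hxz h3.symm
  · have h2 := t.loc_gam (swap x y * swap x z) γ
    rw [Perm.mul_apply, swap_apply_of_ne_of_ne hx' hz', swap_apply_of_ne_of_ne hx' hy'] at h2
    exact h2

namespace Fc

variable {M N : Subgroup (Perm Ω)} (F : Fc M N)

include F in
theorem sup_of_covBy {K : Subgroup (Perm Ω)} (hK : K ⋖ M) (hN : ¬ N ≤ K) : ∀ g ∈ M, ∃ n ∈ N, g * n ∈ K := by
  intro g hg
  obtain ⟨k, hk, n, hn, rfl⟩ :=
    (le_or_mul_of_covBy hK F.nor.le fun g hg => F.nor.conj g (hK.le hg)).resolve_left hN g hg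
  exact ⟨n⁻¹, N.inv_mem hn, by simpa using hk⟩

theorem sc_of_covBy {K : Subgroup (Perm Ω)} (hK : K ⋖ M) (hN : ¬ N ≤ K) :
    (∀ n ∈ N, n ∈ K ↔ ∀ i, F.π i n ∈ K) ∨ ∃ c, Dg N F.T F.π F.σ K c := by
  refine F.sc K hK.le (F.sup_of_covBy hK hN) hN fun Y h1 h2 h3 => ?_
  rcases le_or_mul_of_covBy hK (h1.trans F.nor.le) h3 with h | h
  · exact Or.inl (le_antisymm (le_inf h h1) h2)
  · refine Or.inr (le_antisymm h1 fun n hn => ?_)
    obtain ⟨k, hk, y, hy, rfl⟩ := h n (F.nor.le hn)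
    refine Y.mul_mem (h2 ⟨hk, ?_⟩) hy
    simpa using N.mul_mem hn (N.inv_mem (h1 hy))

theorem dg_inv {K : Subgroup (Perm Ω)} {c : Fin F.m → Fin F.m} (hD : Dg N F.T F.π F.σ K c)
    (h : ∀ g ∈ M, ∃ n ∈ N, g * n ∈ K) (g : M) (i j : Fin F.m) (hij : c i = c j) : c (F.σ g i) = c (F.σ g j) := by
  obtain ⟨n, hn, hg⟩ := h g g.2
  have := hD.inv (g * ⟨n, F.nor.le hn⟩) hg i j hij
  rwa [map_mul, F.fix ⟨n, F.nor.le hn⟩ hn, mul_one] at this

/-- a diagonal structure along which the point stabiliser splits has one class -/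
theorem one_class {X H : Subgroup (Perm Ω)} (s : Sec X H) (hM : M ∈ Ov X H) (ht : Tr N) {K : Subgroup (Perm Ω)}
    {c : Fin F.m → Fin F.m} (hD : Dg N F.T F.π F.σ K c) (h : ∀ g ∈ M, ∃ n ∈ N, g * n ∈ K) {a : Ω}
    (hsp : ∀ i, F.Sp (fun j => c j = c i) a) (i j : Fin F.m) : c i = c j := by
  by_contra hij
  obtain ⟨k, hk, e⟩ := hD.ne i
  exact hk ((F.cart s hM ht (F.dg_inv hD h) hsp hij).2.1 e)

end Fc

/-- a maximal overgroup of product type -/
structure PA (X H : Subgroup (Perm Ω)) {M N : Subgroup (Perm Ω)} (F : Fc M N) : Prop where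
  two : 2 ≤ F.m
  tr : Tr N
  prod : ∀ a, ∀ n ∈ N, n a = a → ∀ i, F.π i n a = a
  eq : M = X ⊓ RS (F.Near id)
  alt : ∀ a i, F.T i = (F.two tr (F.sp_of_prod (prod a) fun j => id j = id i)).alt
  cen : Cen M N = ⊥
  min : ∀ D, MinN H D → D ≤ N
  sup : ∀ g ∈ M, ∃ n ∈ N, g * n ∈ H
  nle : ¬ N ≤ H

/-- **the structure of the overgroups**: affine, almost simple, or of product type -/
theorem struct {X H M : Subgroup (Perm Ω)} (s : Sec X H) (hp : IsPreprimitive H Ω) (hna : ∀ V, ¬ Aff H V)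
    (hM : M ∈ Ov X H) (hcore : ∀ K, Nor M K → K ≤ H → K = ⊥) :
    (∃ V, Aff M V) ∨ (∃ S, Soc M S ∧ ∀ D, MinN H D → D ≤ S) ∨
      ∃ (N : Subgroup (Perm Ω)) (F : Fc M N), PA X H F ∧
        ((∃ c, Dg N F.T F.π F.σ H c ∧ ∀ i j, c i = c j) ∨ ∀ n ∈ N, n ∈ H ↔ ∀ i, F.π i n ∈ H) := by
  classical
  have h2 : 2 ≤ Fintype.card Ω := le_trans (by norm_num) s.five
  have hpM := prim_of_le hM.2 hp
  have hHM := s.cov M hM
  obtain ⟨N, -, hN⟩ := exists_minN (Nor.refl M) (ne_bot_of_prim hpM h2)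
  by_cases hc : ∀ x ∈ N, ∀ y ∈ N, x * y = y * x
  · exact Or.inl ⟨N, hN.toNor, hN.ne, hc⟩
  right
  obtain ⟨F⟩ := exists_fc hN hc
  have tN := tr_of_nor hpM hN.toNor hN.ne
  have hNH : ¬ N ≤ H := fun h => hN.ne (hcore N hN.toNor h)
  have hsup := F.sup_of_covBy hHM hNH
  have hscH := F.sc_of_covBy hHM hNH
  obtain ⟨a₀⟩ : Nonempty Ω := Fintype.card_pos_iff.1 (by omega)
  have hmin : Cen M N = ⊥ → ¬ Fintype.card Ω ∣ F.m.factorial → ∀ D, MinN H D → D ≤ N := by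
    intro hC hd D hD
    obtain ⟨G⟩ := hD.fc hna
    exact (F.le_or_dvd hC hM.2 hD G.perf (tr_of_nor hp hD.toNor hD.ne) a₀).resolve_right hd
  let i₀ : Fin F.m := ⟨0, F.pos⟩
  by_cases hm : F.m = 1
  · left
    have hT : F.T i₀ = N := le_antisymm (F.le i₀) fun n hn => F.mem_T hn fun j hj =>
      absurd (Fin.ext (by have := j.2; simp only [i₀]; omega)) hj
    have hs : IsSimpleGroup N := hT ▸ F.simple i₀
    have hC := no_hol hHM hp h2 hcore hN.toNor hs (hT ▸ F.nab i₀)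
    refine ⟨N, ⟨hN.toNor, hs, fun h => hc fun x hx y hy =>
      congrArg Subtype.val (h.is_comm.comm (⟨x, hx⟩ : N) ⟨y, hy⟩), fun g hg h => ?_⟩, hmin hC fun h => ?_⟩
    · exact mem_bot.1 (hC ▸ mem_Cen.2 ⟨hg, fun n hn => (h n hn).symm⟩)
    · rw [hm] at h
      have := Nat.le_of_dvd (by decide) h
      simp at this
      omega
  right
  have hm2 : 2 ≤ F.m := by have := F.pos; omega
  have hprod : ∀ a, ∀ n ∈ N, n a = a → ∀ i, F.π i n a = a := by
    intro a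
    have hK := stab_covBy hpM h2 a
    have hNK : ¬ N ≤ M ⊓ stabilizer (Perm Ω) a := fun h => by
      have : Nontrivial Ω := Fintype.one_lt_card_iff_nontrivial.1 h2
      obtain ⟨b, hb⟩ := exists_ne a
      obtain ⟨n, hn, e⟩ := tN a b
      exact hb (e.symm.trans (h hn).2)
    rcases F.sc_of_covBy hK hNK with h | ⟨c, hD⟩
    · exact fun n hn ha i => ((h n hn).1 ⟨F.nor.le hn, ha⟩ i).2
    · exfalso
      have h1 := F.one_class s hM tN hD (F.sup_of_covBy hK hNK) (a := a) fun i => by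
        rw [Fc.sp_iff]
        intro n hn ha x hx hx'
        refine (hD.dec n hn ⟨F.nor.le hn, ha⟩ i x hx.1 fun l => ?_).2
        split_ifs with hl
        · exact hx' l hl
        · exact hx.2 l hl
      obtain ⟨t, ht, ht1⟩ := F.T_ne_bot i₀
      obtain ⟨n, hn, hnK, e⟩ := hD.full i₀ t ht
      have hC := cen_eq_bot hpM F.nor hn (fun h => ht1 (by rw [← e, h, F.one])) hnK.2
      exact F.no_diag hM.2 hp h2 a hD h1 hsup hNH (hmin hC (F.not_dvd_of_diag hm2 (F.card_of_diag tN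
        (by rw [← inf_assoc, inf_eq_left.2 F.nor.le]) hD h1 i₀))) hscH
  have hcart := fun a => F.cart s hM tN (c := id) (fun g i j hij => congrArg (F.σ g) hij)
    (fun i => F.sp_of_prod (hprod a) _) (i := i₀) (k := ⟨1, hm2⟩) (by simp [i₀])
  have hC : Cen M N = ⊥ := by
    have t := F.two tN (F.sp_of_prod (hprod a₀) fun j => id j = id i₀)
    obtain ⟨x, hx, hx1, hxa⟩ := t.exists_fix (t.five_le (F.T_le_P rfl) (F.simple i₀) (F.nab i₀))
    rw [← (hcart a₀).2.2 i₀] at hx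
    exact cen_eq_bot hpM F.nor (F.le i₀ hx) hx1 hxa
  refine ⟨N, F, ⟨hm2, tN, hprod, (hcart a₀).1, fun a => (hcart a).2.2, hC,
    hmin hC (F.not_dvd_of_prod h2 tN (hprod a₀)), hsup, hNH⟩, ?_⟩
  rcases hscH with h | ⟨c, hD⟩
  · exact Or.inr h
  · exact Or.inl ⟨c, hD, F.one_class s hM tN hD hsup fun i => F.sp_of_prod (hprod a₀) _⟩

end Cfsg.Agent.SM.Pw
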