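import Cfsg.Agent.SM.Base
import Cfsg.Agent.H936.PSSym

/-!
# SM (S3570): decompositions `Ω = Γ × Γ'` given by two commuting groups, local permutations (helper59)

`Two A B a` : `A` and `B` commute, `A B` is transitive and `(A B)_a = A_a × B_a`.  A permutation `τ` of the orbit `Γ = A a`
extends to the permutation `loc τ` of `Ω` that commutes with `B`.
-/

set_option autoImplicit false
set_option linter.unusedSectionVars false
set_option linter.unusedVariables false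

namespace Cfsg.Agent.SM.Pw

open Equiv Subgroup MulAction
open scoped commutatorElement

variable {Ω : Type} [Fintype Ω] [DecidableEq Ω]

/-- a non-abelian simple subgroup is perfect -/
theorem le_of_comm_mem {G : Type*} [Group G] {T K : Subgroup G} (hs : IsSimpleGroup T)
    (hn : ∃ a ∈ T, ∃ b ∈ T, a * b ≠ b * a) (h : ∀ s ∈ T, ∀ t ∈ T, s * t * s⁻¹ * t⁻¹ ∈ K) : T ≤ K := by
  rcases (inferInstance : (commutator T).Normal).eq_bot_or_eq_top with h1 | h1
  · exfalso
    obtain ⟨a, ha, b, hb, hab⟩ := hn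
    have h2 : ⁅(⟨a, ha⟩ : T), (⟨b, hb⟩ : T)⁆ ∈ commutator T := commutator_mem_commutator (mem_top _) (mem_top _)
    rw [h1, mem_bot, commutatorElement_eq_one_iff_mul_comm] at h2
    exact hab (congrArg Subtype.val h2)
  · have h2 : commutator T ≤ K.subgroupOf T := by
      rw [commutator_def, commutator_le]
      intro s _ t _
      exact h s s.2 t t.2
    rw [h1] at h2
    exact fun t ht => h2 (mem_top (⟨t, ht⟩ : T))

/-- a subgroup normalised by a simple group contains it or meets it trivially -/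
theorem le_or_disjoint {G : Type*} [Group G] {T K : Subgroup G} (hs : IsSimpleGroup T)
    (h : ∀ t ∈ T, ∀ x ∈ T, x ∈ K → t * x * t⁻¹ ∈ K) : T ≤ K ∨ ∀ x ∈ T, x ∈ K → x = 1 := by
  have hn : (K.subgroupOf T).Normal := ⟨fun x hx g => h g g.2 x x.2 hx⟩
  rcases hn.eq_bot_or_eq_top with h1 | h1
  · right
    intro x hx hK
    have : (⟨x, hx⟩ : T) ∈ K.subgroupOf T := hK
    rw [h1, mem_bot] at this
    exact congrArg Subtype.val this
  · exact Or.inl (subgroupOf_eq_top.1 h1)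

/-- the centre of a non-abelian simple subgroup is trivial -/
theorem eq_one_of_central {G : Type*} [Group G] {T : Subgroup G} (hs : IsSimpleGroup T)
    (hn : ∃ a ∈ T, ∃ b ∈ T, a * b ≠ b * a) {x : G} (hx : x ∈ T) (h : ∀ t ∈ T, x * t = t * x) : x = 1 := by
  rcases (inferInstance : (center T).Normal).eq_bot_or_eq_top with h1 | h1
  · have : (⟨x, hx⟩ : T) ∈ center T := mem_center_iff.2 fun g => Subtype.ext (h g g.2).symm
    rw [h1, mem_bot] at this
    exact congrArg Subtype.val this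
  · exfalso
    obtain ⟨a, ha, b, hb, hab⟩ := hn
    have : (⟨b, hb⟩ : T) ∈ center T := h1 ▸ mem_top _
    exact hab (congrArg Subtype.val (mem_center_iff.1 this ⟨a, ha⟩))

/-- the orbit of `a` -/
def Orb (A : Subgroup (Perm Ω)) (a u : Ω) : Prop := ∃ x ∈ A, x a = u

theorem Orb.refl (A : Subgroup (Perm Ω)) (a : Ω) : Orb A a a := ⟨1, A.one_mem, rfl⟩

theorem Orb.symm {A : Subgroup (Perm Ω)} {a u : Ω} (h : Orb A a u) : Orb A u a := by
  obtain ⟨x, hx, rfl⟩ := h
  exact ⟨x⁻¹, A.inv_mem hx, by simp⟩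

theorem Orb.trans {A : Subgroup (Perm Ω)} {a u v : Ω} (h : Orb A a u) (h' : Orb A u v) : Orb A a v := by
  obtain ⟨x, hx, rfl⟩ := h
  obtain ⟨y, hy, rfl⟩ := h'
  exact ⟨y * x, A.mul_mem hy hx, rfl⟩

theorem Orb.mono {A B : Subgroup (Perm Ω)} (h : A ≤ B) {a u : Ω} (h' : Orb A a u) : Orb B a u := by
  obtain ⟨x, hx, rfl⟩ := h'
  exact ⟨x, h hx, rfl⟩

theorem orb_apply {A : Subgroup (Perm Ω)} {a : Ω} {x : Perm Ω} (hx : x ∈ A) (u : Ω) : Orb A a (x u) ↔ Orb A a u :=
  ⟨fun h => h.trans (Orb.symm ⟨x, hx, rfl⟩), fun h => h.trans ⟨x, hx, rfl⟩⟩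

/-- an element that fixes `a` and normalises `A` leaves the orbit invariant -/
theorem orb_apply_of_conj {A : Subgroup (Perm Ω)} {a : Ω} {g : Perm Ω} (ha : g a = a)
    (hg : ∀ x, x ∈ A ↔ g * x * g⁻¹ ∈ A) (u : Ω) : Orb A a (g u) ↔ Orb A a u := by
  have ha' : g⁻¹ a = a := by rw [Perm.inv_eq_iff_eq, ha]
  constructor
  · rintro ⟨x, hx, hu⟩
    refine ⟨g⁻¹ * x * g, (hg _).2 (by simpa [mul_assoc] using hx), ?_⟩
    rw [Perm.mul_apply, Perm.mul_apply, ha, hu]
    simp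
  · rintro ⟨x, hx, rfl⟩
    exact ⟨g * x * g⁻¹, (hg x).1 hx, by rw [Perm.mul_apply, Perm.mul_apply, ha']⟩

/-- the orbit as a type -/
abbrev Gam (A : Subgroup (Perm Ω)) (a : Ω) : Type := {u // Orb A a u}

/-- `A` and `B` commute, `A B` is transitive, the stabiliser splits -/
structure Two (A B : Subgroup (Perm Ω)) (a : Ω) : Prop where
  comm : ∀ x ∈ A, ∀ y ∈ B, x * y = y * x
  tr : ∀ u, ∃ x ∈ A, ∃ y ∈ B, y (x a) = u
  split : ∀ x ∈ A, ∀ y ∈ B, y (x a) = a → x a = a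

namespace Two

variable {A B : Subgroup (Perm Ω)} {a : Ω}

theorem comm' (h : Two A B a) {x y : Perm Ω} (hx : x ∈ A) (hy : y ∈ B) (u : Ω) : x (y u) = y (x u) := by
  rw [← Perm.mul_apply, h.comm x hx y hy, Perm.mul_apply]

theorem cover (h : Two A B a) (u : Ω) : ∃ y ∈ B, ∃ γ : Gam A a, y γ = u := by
  obtain ⟨x, hx, y, hy, e⟩ := h.tr u
  exact ⟨y, hy, ⟨x a, x, hx, rfl⟩, e⟩

theorem unique (h : Two A B a) {y y' : Perm Ω} (hy : y ∈ B) (hy' : y' ∈ B) {γ γ' : Gam A a} (e : y γ = y' γ') :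
    γ = γ' ∧ ∀ δ : Gam A a, y δ = y' δ := by
  obtain ⟨_, x, hx, rfl⟩ := γ
  obtain ⟨_, x', hx', rfl⟩ := γ'
  have hz : y'⁻¹ * y ∈ B := B.mul_mem (B.inv_mem hy') hy
  have e1 : (y'⁻¹ * y) (x a) = x' a := by
    rw [Perm.mul_apply, Perm.inv_eq_iff_eq]
    exact e
  have e2 : (y'⁻¹ * y) ((x'⁻¹ * x) a) = a := by
    rw [Perm.mul_apply x'⁻¹, ← h.comm' (A.inv_mem hx') hz, e1]
    simp
  have e3 := h.split _ (A.mul_mem (A.inv_mem hx') hx) _ hz e2
  rw [e3] at e2
  rw [Perm.mul_apply, Perm.inv_eq_iff_eq] at e3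
  refine ⟨Subtype.ext e3, ?_⟩
  rintro ⟨_, z, hz', rfl⟩
  have e4 : (y'⁻¹ * y) (z a) = z a := by rw [← h.comm' hz' hz, e2]
  rw [Perm.mul_apply, Perm.inv_eq_iff_eq] at e4
  exact e4

theorem exists_fun (h : Two A B a) (τ : Perm (Gam A a)) :
    ∃ f : Ω → Ω, ∀ y ∈ B, ∀ γ : Gam A a, f (y γ) = y (τ γ) := by
  choose Y hY Γ hΓ using h.cover
  refine ⟨fun u => Y u (τ (Γ u)), fun y hy γ => ?_⟩
  obtain ⟨e1, e2⟩ := h.unique (hY (y γ)) hy (hΓ (y γ))
  show Y (y γ) (τ (Γ (y γ))) = y (τ γ)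
  rw [e1, e2]

theorem exists_perm (h : Two A B a) (τ : Perm (Gam A a)) :
    ∃ w : Perm Ω, ∀ y ∈ B, ∀ γ : Gam A a, w (y γ) = y (τ γ) := by
  obtain ⟨f, hf⟩ := h.exists_fun τ
  obtain ⟨g, hg⟩ := h.exists_fun τ⁻¹
  refine ⟨⟨f, g, fun u => ?_, fun u => ?_⟩, hf⟩
  · obtain ⟨y, hy, γ, rfl⟩ := h.cover u
    rw [hf y hy, hg y hy]
    simp
  · obtain ⟨y, hy, γ, rfl⟩ := h.cover u
    rw [hg y hy, hf y hy]
    simp

/-- local permutations -/
noncomputable def loc (h : Two A B a) : Perm (Gam A a) →* Perm Ω :=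
  MonoidHom.mk' (fun τ => (h.exists_perm τ).choose) fun σ τ => by
    ext u
    obtain ⟨y, hy, γ, rfl⟩ := h.cover u
    rw [Perm.mul_apply, (h.exists_perm (σ * τ)).choose_spec y hy, (h.exists_perm τ).choose_spec y hy,
      (h.exists_perm σ).choose_spec y hy, Perm.mul_apply]

theorem loc_apply (h : Two A B a) (τ : Perm (Gam A a)) {y : Perm Ω} (hy : y ∈ B) (γ : Gam A a) :
    h.loc τ (y γ) = y (τ γ) := (h.exists_perm τ).choose_spec y hy γ

theorem loc_gam (h : Two A B a) (τ : Perm (Gam A a)) (γ : Gam A a) : h.loc τ γ = τ γ :=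
  h.loc_apply τ B.one_mem γ

theorem loc_comm (h : Two A B a) (τ : Perm (Gam A a)) {y : Perm Ω} (hy : y ∈ B) : h.loc τ * y = y * h.loc τ := by
  ext u
  obtain ⟨z, hz, γ, rfl⟩ := h.cover u
  rw [Perm.mul_apply, Perm.mul_apply, h.loc_apply τ hz, ← Perm.mul_apply y z, h.loc_apply τ (B.mul_mem hy hz),
    Perm.mul_apply]

theorem loc_inj (h : Two A B a) : Function.Injective h.loc := by
  intro σ τ e
  ext γ
  rw [← h.loc_gam, ← h.loc_gam, e]

theorem loc_orb (h : Two A B a) (τ : Perm (Gam A a)) (u : Ω) : Orb A u (h.loc τ u) := by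
  obtain ⟨y, hy, γ, rfl⟩ := h.cover u
  obtain ⟨x, hx, e⟩ := γ.2.symm.trans (τ γ).2
  exact ⟨x, hx, by rw [h.loc_apply τ hy, h.comm' hx hy, e]⟩

/-- a permutation that commutes with `B` and leaves the orbit invariant is local -/
theorem eq_loc (h : Two A B a) {g : Perm Ω} (hc : ∀ y ∈ B, g * y = y * g) (hg : ∀ u, Orb A a (g u) ↔ Orb A a u) :
    h.loc (g.subtypePerm hg) = g := by
  ext u
  obtain ⟨y, hy, γ, rfl⟩ := h.cover u
  rw [h.loc_apply _ hy, ← Perm.mul_apply g, hc y hy]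
  rfl

theorem loc_res (h : Two A B a) {x : Perm Ω} (hx : x ∈ A) : h.loc (x.subtypePerm (orb_apply hx)) = x :=
  h.eq_loc (h.comm x hx) _

theorem le_range (h : Two A B a) : A ≤ h.loc.range := fun x hx => ⟨_, h.loc_res hx⟩

/-- the local permutation induced by an element that normalises `A` acts on `A` like that element -/
theorem loc_conj (h : Two A B a) {g : Perm Ω} (ha : g a = a) (hg : ∀ x, x ∈ A ↔ g * x * g⁻¹ ∈ A) {x : Perm Ω}
    (hx : x ∈ A) : h.loc (g.subtypePerm (orb_apply_of_conj ha hg)) * x *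
      (h.loc (g.subtypePerm (orb_apply_of_conj ha hg)))⁻¹ = g * x * g⁻¹ := by
  rw [← h.loc_res ((hg x).1 hx)]
  conv_lhs => rw [← h.loc_res hx]
  rw [← map_inv, ← map_mul, ← map_mul]
  congr 1

open Classical in
/-- the even local permutations -/
noncomputable def alt (h : Two A B a) : Subgroup (Perm Ω) := (alternatingGroup (Gam A a)).map h.loc

theorem alt_le_range (h : Two A B a) : h.alt ≤ h.loc.range := map_le_range _ _

/-- a non-abelian simple subgroup of `A` consists of even local permutations -/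
theorem simple_le_alt (h : Two A B a) {T : Subgroup (Perm Ω)} (hT : T ≤ A) (hs : IsSimpleGroup T)
    (hn : ∃ a ∈ T, ∃ b ∈ T, a * b ≠ b * a) : T ≤ h.alt := by
  classical
  refine le_of_comm_mem hs hn fun s hs' t ht => ?_
  obtain ⟨σ, rfl⟩ := h.le_range (hT hs')
  obtain ⟨τ, rfl⟩ := h.le_range (hT ht)
  refine ⟨σ * τ * σ⁻¹ * τ⁻¹, ?_, by simp⟩
  rw [SetLike.mem_coe, Perm.mem_alternatingGroup]
  exact Abelianization.commutator_subset_ker Perm.sign (commutator_mem_commutator (mem_top σ) (mem_top τ))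

theorem five_le (h : Two A B a) {T : Subgroup (Perm Ω)} (hT : T ≤ A) (hs : IsSimpleGroup T)
    (hn : ∃ a ∈ T, ∃ b ∈ T, a * b ≠ b * a) : 5 ≤ Nat.card (Gam A a) := by
  by_contra hlt
  have h1 := H936.derivedSeries_perm_le_four (α := Gam A a) (by omega)
  have h2 : ∀ k, T ≤ (derivedSeries (Perm (Gam A a)) k).map h.loc := by
    intro k
    induction k with
    | zero =>
      intro x hx
      obtain ⟨σ, rfl⟩ := h.le_range (hT hx)
      exact ⟨σ, mem_top _, rfl⟩
    | succ k ih =>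
      refine le_of_comm_mem hs hn fun s hs' t ht => ?_
      obtain ⟨σ, hσ, rfl⟩ := ih hs'
      obtain ⟨τ, hτ, rfl⟩ := ih ht
      exact ⟨⁅σ, τ⁆, commutator_mem_commutator hσ hτ, by simp [commutatorElement_def]⟩
  have h3 := h2 3
  rw [h1, Subgroup.map_bot] at h3
  obtain ⟨x, hx, y, hy, e⟩ := hn
  rw [mem_bot.1 (h3 hx)] at e
  simp at e

theorem alt_le_alt (h : Two A B a) (h5 : 5 ≤ Nat.card (Gam A a)) : h.alt ≤ alternatingGroup Ω := by
  classical
  unfold alt
  rw [← alternatingGroup.commutator_perm_eq h5, commutator_def, map_commutator]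
  exact (commutator_mono le_top le_top).trans alternatingGroup.commutator_perm_le

theorem alt_simple (h : Two A B a) (h5 : 5 ≤ Nat.card (Gam A a)) : IsSimpleGroup h.alt := by
  classical
  have := alternatingGroup.isSimpleGroup h5
  exact (equivMapOfInjective (alternatingGroup (Gam A a)) h.loc h.loc_inj).symm.isSimpleGroup

end Two

end Cfsg.Agent.SM.Pw
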